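import Cfsg.Agent.Lib.Fusion.EBalance.ProductSystem
import Cfsg.Agent.Lib.Fusion.GroupNormalSub
import Cfsg.Agent.Lib.Fusion.StrictlyConstrained
import Cfsg.Agent.Lib.Fusion.PPrimeLeast

/-!
# A Frattini factorization relative to a normal subsystem

Every map of `F` on `Q` is a map on `T ⊔ Q` after a map of the system over `T ⊔ Q` with the residual of `E`.
-/

set_option autoImplicit false
set_option linter.unusedSectionVars false

namespace CfsgLib.EBalance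

open Cfsg Cfsg.FusionSystem CfsgLib.Fusion CfsgLib.FusionNormal CfsgLib.FusionTransport

universe u

variable {Ω : Type u} [Group Ω] {S T Q Q' : Subgroup Ω} {F : FusionSystem S} {E : FusionSystem T} {p : ℕ}

/-- `f` on `Q` is a map on `T ⊔ Q` after a map of the system over `T ⊔ Q`. -/
def Frat (F : FusionSystem S) (E : FusionSystem T) (p : ℕ) (Q : Subgroup Ω) (f : Ω → Ω) : Prop :=
  ∃ (R : Subgroup Ω) (D : FusionSystem R) (a d : Ω → Ω), T ⊔ Q = R ∧ IsRE F E p D ∧ MapFn D Q d ∧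
    MapFn F R a ∧ ∀ x ∈ Q, f x = a (d x)

theorem Frat.congr {f g : Ω → Ω} (h : Frat F E p Q f) (e : ∀ x ∈ Q, f x = g x) : Frat F E p Q g := by
  obtain ⟨R, D, a, d, hR, hD, hd, ha, he⟩ := h
  exact ⟨R, D, a, d, hR, hD, hd, ha, fun x hx => (e x hx).symm.trans (he x hx)⟩

theorem Frat.mapFn {f : Ω → Ω} (h : Frat F E p Q f) : MapFn F Q f := by
  obtain ⟨R, D, a, d, hR, hD, hd, ha, he⟩ := h
  exact ((mapFn_of_sub hD.2.1 hd).comp ha fun x hx => hd.mem_S hx).congr fun x hx => (he x hx).symm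

/-- Restriction to a subgroup that still generates `T ⊔ Q` with `T`. -/
theorem Frat.restrict {f : Ω → Ω} (h : Frat F E p Q f) (hle : Q' ≤ Q) (hge : Q ≤ T ⊔ Q') :
    Frat F E p Q' f := by
  obtain ⟨R, D, a, d, hR, hD, hd, ha, he⟩ := h
  refine ⟨R, D, a, d, ?_, hD, hd.mono hle, ha, fun x hx => he x (hle hx)⟩
  exact (le_antisymm (sup_le_sup_left hle T) (sup_le le_sup_left hge)).trans hR

variable [Finite S] [Fact p.Prime]
variable (hS : IsPGroup p S) (hE : E.IsNormalIn F p) (hRE : HasRE F E p)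

include hS hE hRE in
/-- Maps extending to `T ⊔ Q` factor. -/
theorem Frat.of_ext {f g : Ω → Ω} (hg : MapFn F (T ⊔ Q) g) (he : ∀ x ∈ Q, g x = f x) :
    Frat F E p Q f := by
  obtain ⟨D, hD, -⟩ := hRE (T ⊔ Q) le_sup_left hg.le_S
  exact ⟨_, D, g, id, rfl, hD, mapFn_id le_sup_right, hg, fun x hx => (he x hx).symm⟩

include hS hE hRE in
/-- Maps inside `T` factor. -/
theorem Frat.of_le {f : Ω → Ω} (hQ : Q ≤ T) (hf : MapFn F Q f) : Frat F E p Q f := by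
  obtain ⟨a, f₀, ha, -, hf₀, he⟩ := mapFn_frattini hE.1.2.2 hQ hf
  exact ⟨T, E, a, f₀, sup_eq_left.mpr hQ, isRE_self hS hE, hf₀, ha, he⟩

include hS hE in
/-- The image of a factoring map generates, with `T`, the image of `T ⊔ Q`. -/
theorem Frat.exists_image {f : Ω → Ω} {R : Subgroup Ω} {D : FusionSystem R} {a d : Ω → Ω} (hR : T ⊔ Q = R)
    (hD : IsRE F E p D) (hd : MapFn D Q d) (ha : MapFn F R a) (he : ∀ x ∈ Q, f x = a (d x))
    (hf : f '' Q = (Q' : Set Ω)) :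
    ∃ Q₁ : Subgroup Ω, d '' Q = (Q₁ : Set Ω) ∧ a '' Q₁ = (Q' : Set Ω) ∧ T ⊔ Q₁ = R ∧
      a '' R = ((T ⊔ Q' : Subgroup Ω) : Set Ω) := by
  have hRS : R ≤ S := ha.le_S
  have hTR : T ≤ R := hR ▸ le_sup_left
  obtain ⟨Q₁, hQ₁R, hQ₁⟩ := hd.exists_image
  have h1 : a '' Q₁ = (Q' : Set Ω) := by
    rw [← hQ₁, Set.image_image, ← hf]
    exact Set.image_congr fun x hx => (he x hx).symm
  have h2 := hD.image_sup hS hTR hRS hR hd hQ₁
  have hT := image_sc hE.1.2.2.2.1 ha hTR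
  refine ⟨Q₁, hQ₁, h1, h2, Set.Subset.antisymm ?_ ?_⟩
  · rintro _ ⟨x, hx, rfl⟩
    rw [← h2] at hx ha
    exact ha.maps_sup (fun y hy => Subgroup.mem_sup_left (mem_of_image hT hy))
      (fun y hy => Subgroup.mem_sup_right (mem_of_image h1 hy)) x hx
  · obtain ⟨W, -, hW⟩ := ha.exists_image
    rw [hW]
    show T ⊔ Q' ≤ W
    refine sup_le (fun y hy => ?_) fun y hy => ?_
    · obtain ⟨x, hx, rfl⟩ := exists_of_image hT hy
      exact mem_of_image hW (hTR hx)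
    · obtain ⟨x, hx, rfl⟩ := exists_of_image h1 hy
      exact mem_of_image hW (hQ₁R hx)

include hS hE hRE in
theorem Frat.comp {f g : Ω → Ω} (h : Frat F E p Q f) (hf : f '' Q = (Q' : Set Ω))
    (h' : Frat F E p Q' g) : Frat F E p Q (g ∘ f) := by
  obtain ⟨R, D, a, d, hR, hD, hd, ha, he⟩ := h
  obtain ⟨R', D', b, c, hR', hD', hc, hb, hce⟩ := h'
  obtain ⟨Q₁, hQ₁, haQ, hRQ, haR⟩ := Frat.exists_image hS hE hR hD hd ha he hf
  rw [hR'] at haR
  have hTR : T ≤ R := hR ▸ le_sup_left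
  have hTR' : T ≤ R' := hR' ▸ le_sup_left
  obtain ⟨a', ha', ha'R, ha'a, haa'⟩ := ha.exists_inv haR
  have hQ'R' : Q' ≤ R' := hR' ▸ le_sup_right
  have hQ₁R : Q₁ ≤ R := hRQ ▸ le_sup_right
  have ha'Q : a' '' Q' = (Q₁ : Set Ω) := by
    rw [← haQ, Set.image_image]
    exact (Set.image_congr fun x hx => ha'a x (hQ₁R hx)).trans (Set.image_id' _)
  obtain ⟨c', hc', hc'e⟩ := hD'.conj hS hE hRE hTR' ha'.le_S ha' ha'R hD hc ha'Q
  refine ⟨R, D, b ∘ a, c' ∘ d, hR, hD, hd.comp hc' fun x hx => mem_of_image hQ₁ hx,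
    ha.comp hb fun x hx => mem_of_image haR hx, fun x hx => ?_⟩
  have hdx : d x ∈ Q₁ := mem_of_image hQ₁ hx
  show g (f x) = b (a (c' (d x)))
  have h1 := hc'e (a (d x)) (mem_of_image haQ hdx)
  rw [ha'a _ (hQ₁R hdx)] at h1
  rw [he x hx, hce _ (mem_of_image haQ hdx), h1, haa' _ (hc.mem_S (mem_of_image haQ hdx))]

include hS hE hRE in
theorem Frat.inv {f g : Ω → Ω} (h : Frat F E p Q f) (hf : f '' Q = (Q' : Set Ω))
    (hg : ∀ x ∈ Q, g (f x) = x) : Frat F E p Q' g := by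
  obtain ⟨R, D, a, d, hR, hD, hd, ha, he⟩ := h
  obtain ⟨Q₁, hQ₁, haQ, hRQ, haR⟩ := Frat.exists_image hS hE hR hD hd ha he hf
  have hTR : T ≤ R := hR ▸ le_sup_left
  have hQR : Q ≤ R := hR ▸ le_sup_right
  obtain ⟨d', hd', -, hd'd, -⟩ := hd.exists_inv hQ₁
  obtain ⟨a', ha', -, ha'a, -⟩ := ha.exists_inv haR
  obtain ⟨D', hD', -⟩ := hRE (T ⊔ Q') le_sup_left ha'.le_S
  obtain ⟨k, hk, hke⟩ := hD.conj hS hE hRE hTR ha.le_S ha haR hD' hd' haQ
  refine ⟨_, D', a', k, rfl, hD', hk, ha', fun y hy => ?_⟩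
  obtain ⟨x, hx, rfl⟩ := exists_of_image hf hy
  rw [hg x hx, he x hx, hke _ (mem_of_image hQ₁ hx), hd'd x hx, ha'a x (hQR hx)]

/-! ### The automorphism groups -/

include hS hE hRE in
/-- The automorphisms that factor form a group containing the automorphisms induced by `S`. -/
theorem exists_fratAut (hQ : Q ≤ S) : ∃ G : Subgroup (F.autGroup Q), ∀ α : F.autGroup Q,
    α ∈ G ↔ ∃ f, Frat F E p Q f ∧ ∀ x : Q, f x = (((α : MulAut Q) x : Q) : Ω) := by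
  classical
  have himg : ∀ {α : F.autGroup Q} {f : Ω → Ω}, (∀ x : Q, f x = (((α : MulAut Q) x : Q) : Ω)) →
      f '' Q = (Q : Set Ω) := fun {α f} he => by
    ext y
    constructor
    · rintro ⟨x, hx, rfl⟩; rw [he ⟨x, hx⟩]; exact Subtype.mem _
    · exact fun hy => ⟨(α : MulAut Q)⁻¹ ⟨y, hy⟩, Subtype.mem _, by rw [he]; simp⟩
  refine ⟨{
    carrier := {α | ∃ f, Frat F E p Q f ∧ ∀ x : Q, f x = (((α : MulAut Q) x : Q) : Ω)}
    one_mem' := ⟨id, Frat.of_ext hS hE hRE (mapFn_id (sup_le hE.1.2.2.2.1.1 hQ)) fun _ _ => rfl, fun _ => rfl⟩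
    mul_mem' := ?_
    inv_mem' := ?_ }, fun α => Iff.rfl⟩
  · rintro a b ⟨fa, hfa, hae⟩ ⟨fb, hfb, hbe⟩
    refine ⟨fa ∘ fb, hfb.comp hS hE hRE (himg hbe) hfa, fun x => ?_⟩
    show fa (fb x) = _
    rw [hbe x, hae]
    rfl
  · rintro a ⟨f, hf, hae⟩
    obtain ⟨g, -, -, hgf, -⟩ := hf.mapFn.exists_inv (himg hae)
    refine ⟨g, hf.inv hS hE hRE (himg hae) hgf, fun x => ?_⟩
    have h1 := hgf _ ((a : MulAut Q)⁻¹ x).2
    rw [hae, MulAut.apply_inv_self] at h1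
    exact h1

include hS hE hRE in
/-- An automorphism whose domain grows inside `T` factors, by induction. -/
theorem frat_of_extender
    (IH : ∀ (N : Subgroup Ω) (g : Ω → Ω), Nat.card ↥(Q ⊓ T) < Nat.card ↥(N ⊓ T) → MapFn F N g →
      Frat F E p N g)
    (hQr : F.IsReceptive Q) {φ : Q →* Ω} (hφ : φ ∈ F.Hom Q) (hφr : φ.range = Q) {t : Ω} (ht : t ∈ T)
    (htQ : t ∉ Q) (hte : t ∈ extender S Q φ) {f : Ω → Ω} (hf : ∀ x : Q, φ x = f x) :
    Frat F E p Q f := by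
  have hQS : Q ≤ S := Fusion.le_S hφ
  set N := (T ⊔ Q) ⊓ extender S Q φ with hN
  have hQN : Q ≤ N := le_inf le_sup_right (le_extender hQS (apply_mem_S hφ))
  obtain ⟨ψ, hψ, hψe⟩ := Fusion.exists_extension hQr hφ hφr hQN inf_le_right
  obtain ⟨g, hg, hge⟩ := mapFn_of_hom hψ
  have hlt : Nat.card ↥(Q ⊓ T) < Nat.card ↥(N ⊓ T) := by
    refine card_lt_card (S := S) (inf_le_right.trans hE.1.2.2.2.1.1)
      (lt_of_le_of_ne (inf_le_inf_right _ hQN) fun h => htQ ?_)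
    exact (h.ge ⟨⟨Subgroup.mem_sup_left ht, hte⟩, ht⟩).1
  refine ((IH N g hlt hg).restrict hQN inf_le_left).congr fun x hx => ?_
  exact ((hge ⟨x, hQN hx⟩).symm.trans (hψe ⟨x, hx⟩)).trans (hf ⟨x, hx⟩)

include hS in
/-- A normalizing element outside `Q`. -/
theorem exists_normalizing (hQ : Q ≤ S) {C : Subgroup Ω} (hC : C ≤ S)
    (hn : ∀ q ∈ Q, ∀ c ∈ C, q * c * q⁻¹ ∈ C) (hne : ¬ C ≤ Q) : ∃ c ∈ C, c ∉ Q ∧
      c ∈ Subgroup.normalizer (Q : Set Ω) := by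
  have := finite_of_le hC
  have hQC : Q ≤ Subgroup.normalizer (C : Set Ω) := fun q hq => Fusion.mem_normalizer_of_forall (hn q hq)
  obtain ⟨g, hg, hgQ⟩ := SetLike.exists_of_lt (lt_normalizerIn hS (sup_le hQ hC)
    (lt_of_le_of_ne (le_sup_left : Q ≤ Q ⊔ C) fun h => hne (h ▸ le_sup_right)))
  have hg' : g ∈ ((Q ⊔ C : Subgroup Ω) : Set Ω) := hg.1
  rw [Subgroup.coe_mul_of_left_le_normalizer_right Q C hQC] at hg'
  obtain ⟨q, hq, c, hc, rfl⟩ := Set.mem_mul.mp hg'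
  refine ⟨c, hc, fun h => hgQ (Q.mul_mem hq h), ?_⟩
  have h1 := Subgroup.mul_mem _ (Subgroup.inv_mem _ (Subgroup.le_normalizer hq)) hg.2
  rwa [← mul_assoc, inv_mul_cancel, one_mul] at h1

omit [Finite S] [Fact p.Prime] in
theorem card_eq_map_mul {R : Subgroup Ω} (hTn : (T.subgroupOf R).Normal) (hTR : T ≤ R) {K : Subgroup Ω}
    (hK : K ≤ R) :
    Nat.card K = Nat.card ((K.subgroupOf R).map (QuotientGroup.mk' (T.subgroupOf R))) *
      Nat.card ↥(K ⊓ T) := by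
  set π := (QuotientGroup.mk' (T.subgroupOf R)).comp (Subgroup.inclusion hK) with hπ
  have h1 : π.range = (K.subgroupOf R).map (QuotientGroup.mk' (T.subgroupOf R)) := by
    rw [hπ, MonoidHom.range_comp, Subgroup.inclusion_range]
  have h2 : Nat.card π.ker = Nat.card ↥(K ⊓ T) := by
    have : π.ker = (K ⊓ T).subgroupOf K := by
      ext x
      simp only [hπ, MonoidHom.mem_ker, MonoidHom.coe_comp, Function.comp_apply, QuotientGroup.mk'_apply,
        QuotientGroup.eq_one_iff, Subgroup.mem_subgroupOf, Subgroup.coe_inclusion, Subgroup.mem_inf]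
      exact ⟨fun h => ⟨x.2, h⟩, fun h => h.2⟩
    rw [this]
    exact Nat.card_congr (Subgroup.subgroupOfEquivOfLe inf_le_left).toEquiv
  rw [← h1, ← h2, Subgroup.card_eq_card_quotient_mul_card_subgroup π.ker,
    Nat.card_congr (QuotientGroup.quotientKerEquivRange π).toEquiv]

include hS hE in
/-- `Q ⊓ T` fully normalized in `F` is fully normalized in the systems over `T ⊔ Q`. -/
theorem inter_fullyNormalized (hF : F.IsSaturated p) {R : Subgroup Ω} {D : FusionSystem R}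
    (hR : T ⊔ Q = R) (hRS : R ≤ S) (hD : D.IsSubsystemOf F) (hn : F.IsFullyNormalized (Q ⊓ T)) :
    D.IsFullyNormalized (Q ⊓ T) := by
  have hTsc := hE.1.2.2.2.1
  have hTR : T ≤ R := hR ▸ le_sup_left
  have hQR : Q ≤ R := hR ▸ le_sup_right
  have := finite_of_le hRS
  refine ⟨inf_le_right.trans hTR, fun V hV => ?_⟩
  obtain ⟨φ, hφ, hφr⟩ := hV
  have hconj : F.IsConj V (Q ⊓ T) := isConj_symm ⟨φ, hD _ hφ, hφr⟩
  obtain ⟨f, hf, -, hfm⟩ := exists_normalizer_mapFn hS hF hn hconj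
  have hTn : (T.subgroupOf R).Normal := ⟨fun t ht g => Subgroup.mem_subgroupOf.mpr
    (FusionNormal.conj_mem_of_normalizer (StronglyClosed.le_normalizer hTsc (hRS g.2)) ht)⟩
  have hsub : ∀ W : Subgroup Ω, normalizerIn R W ⊓ T = normalizerIn T W := fun W =>
    le_antisymm (fun x hx => ⟨hx.2, hx.1.2⟩) fun x hx => ⟨⟨hTR hx.1, hx.2⟩, hx.1⟩
  rw [card_eq_map_mul hTn hTR (normalizerIn_le (S := R) (P := V)),
    card_eq_map_mul hTn hTR (normalizerIn_le (S := R) (P := Q ⊓ T)), hsub, hsub]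
  have htop : ((normalizerIn R (Q ⊓ T)).subgroupOf R).map (QuotientGroup.mk' (T.subgroupOf R)) = ⊤ := by
    refine eq_top_iff.mpr fun z _ => ?_
    obtain ⟨g, rfl⟩ := QuotientGroup.mk'_surjective _ z
    have := finite_of_le (inf_le_right.trans hTsc.1 : Q ⊓ T ≤ S)
    have hg : (g : Ω) ∈ ((T ⊔ Q : Subgroup Ω) : Set Ω) := hR.symm ▸ g.2
    rw [Subgroup.coe_mul_of_right_le_normalizer_left T Q
      ((hQR.trans hRS).trans (StronglyClosed.le_normalizer hTsc))] at hg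
    obtain ⟨t, ht, q, hq, htq⟩ := Set.mem_mul.mp hg
    refine ⟨⟨q, hQR hq⟩, Subgroup.mem_subgroupOf.mpr ⟨hQR hq, Fusion.mem_normalizer_of_forall fun x hx =>
      ⟨Q.mul_mem (Q.mul_mem hq hx.1) (Q.inv_mem hq), FusionNormal.conj_mem_of_normalizer
        (StronglyClosed.le_normalizer hTsc (hRS (hQR hq))) hx.2⟩⟩, ?_⟩
    refine QuotientGroup.eq.mpr (Subgroup.mem_subgroupOf.mpr ?_)
    show q⁻¹ * (g : Ω) ∈ T
    rw [← htq, ← mul_assoc]
    have h1 := FusionNormal.conj_mem_of_normalizer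
      (StronglyClosed.le_normalizer hTsc (hRS (hQR (Q.inv_mem hq)))) ht
    rwa [inv_inv] at h1
  rw [htop, Subgroup.card_top]
  have hTS := hTsc.1
  have hle : normalizerIn T V ≤ normalizerIn S V := inf_le_inf_right _ hTS
  obtain ⟨χ, hχ, hχe⟩ := hf.mono hle
  have : Finite (↥R ⧸ T.subgroupOf R) := inferInstance
  refine Nat.mul_le_mul (Nat.card_le_card_of_injective _ Subtype.coe_injective) ?_
  exact card_le_of_map hχ (normalizerIn_le.trans hTS) fun g => by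
    rw [hχe]
    exact ⟨PPrimeRes.map_mem_of_sc hTsc hf (hle g.2) g.2.1, (hfm _ (hle g.2)).2⟩

include hS hE in
/-- Automorphisms stabilizing `1 ≤ Q ⊓ T ≤ Q` are induced by `S`. -/
theorem stab_mem (hF : F.IsSaturated p) (hQ : F.IsFullyNormalized Q) (α : F.autGroup Q)
    (h1 : ∀ x : Q, (x : Ω) ∈ Q ⊓ T → (α : MulAut Q) x = x)
    (h2 : ∀ x : Q, (x : Ω)⁻¹ * (((α : MulAut Q) x : Q) : Ω) ∈ Q ⊓ T) :
    ∃ s ∈ S, s ∈ Subgroup.normalizer (Q : Set Ω) ∧
      ∀ x : Q, (((α : MulAut Q) x : Q) : Ω) = s * (x : Ω) * s⁻¹ := by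
  have hTsc := hE.1.2.2.2.1
  have := finite_mulAut hQ.1
  have := finite_of_le hQ.1
  let A : Subgroup (F.autGroup Q) :=
    { carrier := {γ | (∀ x : Q, (x : Ω) ∈ Q ⊓ T → (γ : MulAut Q) x = x) ∧
        ∀ x : Q, (x : Ω)⁻¹ * (((γ : MulAut Q) x : Q) : Ω) ∈ Q ⊓ T}
      one_mem' := ⟨fun _ _ => rfl, fun x => by simp⟩
      mul_mem' := fun {a b} ha hb => ⟨fun x hx => by
          show (a : MulAut Q) ((b : MulAut Q) x) = x
          rw [hb.1 x hx, ha.1 x hx],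
        fun x => by
          have := (Q ⊓ T).mul_mem (hb.2 x) (ha.2 ((b : MulAut Q) x))
          simpa [mul_assoc] using this⟩
      inv_mem' := fun {a} ha => ⟨fun x hx => by
          show (a : MulAut Q)⁻¹ x = x
          conv_lhs => rw [← ha.1 x hx]
          exact MulAut.inv_apply_self _ _ _,
        fun x => by
          have := (Q ⊓ T).inv_mem (ha.2 ((a : MulAut Q)⁻¹ x))
          rw [MulAut.apply_inv_self] at this
          simpa using this⟩ }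
  have hAn : A.Normal := ⟨fun a ha g => ⟨fun x hx => by
      show (g : MulAut Q) ((a : MulAut Q) ((g : MulAut Q)⁻¹ x)) = x
      rw [ha.1 _ ⟨Subtype.mem _, StronglyClosed.aut_mem hTsc hQ.1 (Subgroup.inv_mem _ g.2) x hx.2⟩,
        MulAut.apply_inv_self],
    fun x => by
      show (x : Ω)⁻¹ * ((((g : MulAut Q) ((a : MulAut Q) ((g : MulAut Q)⁻¹ x)) : Q)) : Ω) ∈ Q ⊓ T
      set y := (g : MulAut Q)⁻¹ x with hy
      have hx : x = (g : MulAut Q) y := (MulAut.apply_inv_self _ _ _).symm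
      have h3 : (g : MulAut Q) (y⁻¹ * (a : MulAut Q) y) = x⁻¹ * (g : MulAut Q) ((a : MulAut Q) y) := by
        rw [map_mul, map_inv, ← hx]
      refine ⟨Q.mul_mem (Q.inv_mem x.2) (Subtype.mem _), ?_⟩
      have h4 := StronglyClosed.aut_mem hTsc hQ.1 g.2 (y⁻¹ * (a : MulAut Q) y) (ha.2 y).2
      rw [h3] at h4
      exact h4⟩⟩
  have hAp : IsPGroup p A := by
    rintro ⟨γ, hγ⟩
    obtain ⟨k, hk⟩ := exists_pow_eq_one_of_stabilizes (hS.to_le hQ.1) (n := 1)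
      (fun i => if i = 0 then (Q ⊓ T).subgroupOf Q else ⊤) (α := (γ : MulAut Q)) (fun i hi => by
        obtain rfl : i = 0 := by omega
        simp) rfl ⟨0, fun x hx => by
        rw [if_pos rfl, Subgroup.mem_subgroupOf] at hx
        rw [pow_zero, pow_one]
        exact hγ.1 x hx⟩ fun i hi x _ => by
        obtain rfl : i = 0 := by omega
        rw [if_pos rfl, Subgroup.mem_subgroupOf]
        exact hγ.2 x
    exact ⟨k, Subtype.ext (Subtype.ext hk)⟩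
  obtain ⟨-, R, hR⟩ := (fullyNormalized_good hS hF hQ).1
  have hαR : α ∈ (R : Subgroup (F.autGroup Q)) :=
    PCore.pCore_le_sylow R (PCore.le_pCore hAn hAp (show α ∈ A from ⟨h1, h2⟩))
  obtain ⟨s, hs, hse⟩ := mem_autInducedBy.mp (hR.le hαR : (α : MulAut Q) ∈ autInducedBy S Q)
  exact ⟨s, hs, Fusion.mem_normalizer_of_aut hse, hse⟩

include hS hE in
/-- `p'`-automorphisms trivial on `Q / Q ⊓ T` and in `E` on `Q ⊓ T` lie in the system over `T ⊔ Q`. -/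
theorem mapFn_of_coprime_aut (hF : F.IsSaturated p) (hRE : HasRE F E p) {R : Subgroup Ω}
    {D : FusionSystem R} (hD : IsRE F E p D) (hR : T ⊔ Q = R) (hQ : F.IsFullyNormalized Q)
    (hQ₀ : F.IsFullyNormalized (Q ⊓ T)) (hC : centralizerIn T (Q ⊓ T) ≤ Q ⊓ T) {β : F.autGroup Q}
    (hβn : (orderOf β).Coprime p)
    (hβT : ∀ x : Q, (x : Ω)⁻¹ * (((β : MulAut Q) x : Q) : Ω) ∈ Q ⊓ T)
    {e : MulAut ↥(Q ⊓ T)} (he : e ∈ E.autGroup (Q ⊓ T))
    (hee : ∀ x : ↥(Q ⊓ T), ((e x : ↥(Q ⊓ T)) : Ω) = (((β : MulAut Q) ⟨x, x.2.1⟩ : Q) : Ω)) :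
    (β : MulAut Q) ∈ D.autGroup Q := by
  have hTsc := hE.1.2.2.2.1
  have hTS : T ≤ S := hTsc.1
  have hQS : Q ≤ S := hQ.1
  have hTR : T ≤ R := hR ▸ le_sup_left
  have hQR : Q ≤ R := hR ▸ le_sup_right
  have hRS : R ≤ S := hR ▸ sup_le hTS hQS
  have := finite_of_le hRS
  have hRp := hS.to_le hRS
  have := finite_mulAut hQS
  let V : Subgroup Ω := Q ⊓ T
  have hVQ : V ≤ Q := inf_le_left
  have hVT : V ≤ T := inf_le_right
  have heD : e ∈ D.autGroup V := (mem_autGroup (hVQ.trans hQR)).mpr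
    ((hD.layer_sub hS hE hRE hTR hRS) V ((mem_autGroup hVT).mp he))
  have hrec := (fullyNormalized_good hRp hD.1 (inter_fullyNormalized hS hE hF hR hRS hD.2.1 hQ₀)).2
  obtain ⟨φ, hφ, hφr, hφe⟩ := exists_map_of_mem_autGroup (hVQ.trans hQR) heD
  have hφb : ∀ x : V, φ x = (((β : MulAut Q) ⟨x, x.2.1⟩ : Q) : Ω) := fun x => (hφe x).trans (hee x)
  set N := Q ⊔ centralizerIn R V with hN
  have hNR : N ≤ R := sup_le hQR centralizerIn_le
  have hQN : Q ≤ N := le_sup_left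
  have hVN : V ≤ N := hVQ.trans hQN
  have hQnV : ∀ q ∈ Q, q ∈ Subgroup.normalizer (V : Set Ω) := fun q hq => by
    have := finite_of_le (hVQ.trans hQS)
    exact Fusion.mem_normalizer_of_forall fun x hx =>
      ⟨Q.mul_mem (Q.mul_mem hq hx.1) (Q.inv_mem hq), FusionNormal.conj_mem_of_normalizer
        (StronglyClosed.le_normalizer hTsc (hQS hq)) hx.2⟩
  have hNe : N ≤ extender R V φ := by
    refine sup_le (fun q hq => mem_extender.mpr ⟨hQR hq, hQnV q hq,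
      ((β : MulAut Q) ⟨q, hq⟩ : Q), hQR (Subtype.mem _), fun x hx => ?_⟩) centralizerIn_le_extender
    rw [hφb, hφb]
    show (((β : MulAut Q) ((⟨q, hq⟩ : Q) * ⟨x, x.2.1⟩ * (⟨q, hq⟩ : Q)⁻¹) : Q) : Ω) = _
    rw [map_mul, map_mul, map_inv]
    rfl
  obtain ⟨ψ, hψ, hψe⟩ := Fusion.exists_extension hrec hφ hφr hVN hNe
  obtain ⟨g, hg, hge⟩ := mapFn_of_hom hψ
  have hgV : ∀ x : V, g x = (((β : MulAut Q) ⟨x, x.2.1⟩ : Q) : Ω) := fun x =>
    ((hge ⟨x, hVN x.2⟩).symm.trans (hψe x)).trans (hφb x)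
  have hgVr : g '' V = (V : Set Ω) := by
    refine (MapFn.image_eq_range (φ := φ) fun x => (hψe x).symm.trans (hge ⟨x, hVN x.2⟩)).trans ?_
    rw [hφr]
  have hgQ : ∀ x ∈ Q, g x ∈ N := fun q hq => by
    set b : Q := (β : MulAut Q) ⟨q, hq⟩ with hb
    have h1 : (b : Ω)⁻¹ * g q ∈ centralizerIn R V := by
      refine Fusion.mem_centralizerIn'.mpr ⟨R.mul_mem (R.inv_mem (hQR b.2)) (hg.mem_S (hQN hq)), fun y => ?_⟩
      obtain ⟨x, hx, hxy⟩ := exists_of_image hgVr y.2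
      have hqx : q * x * q⁻¹ ∈ V := FusionNormal.conj_mem_of_normalizer (hQnV q hq) hx
      have h2 := hg.map_conj (hQN hq) (hVN hx)
      rw [hgV ⟨_, hqx⟩] at h2
      change (((β : MulAut Q) ((⟨q, hq⟩ : Q) * ⟨x, hx.1⟩ * (⟨q, hq⟩ : Q)⁻¹) : Q) : Ω) = _ at h2
      rw [map_mul, map_mul, map_inv] at h2
      have hxy' : (((β : MulAut Q) ⟨x, hx.1⟩ : Q) : Ω) = (y : Ω) := (hgV ⟨x, hx⟩).symm.trans hxy
      simp only [Subgroup.coe_mul, Subgroup.coe_inv, hxy', hxy, ← hb] at h2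
      calc (b : Ω)⁻¹ * g q * (y : Ω) * ((b : Ω)⁻¹ * g q)⁻¹
          = (b : Ω)⁻¹ * (g q * (y : Ω) * (g q)⁻¹) * b := by group
        _ = y := by rw [← h2]; group
    have h3 := N.mul_mem (Subgroup.mem_sup_left b.2) (Subgroup.mem_sup_right h1)
    rwa [mul_inv_cancel_left] at h3
  have hgr : g '' N = (N : Set Ω) := hg.image_eq_of_maps hNR (hg.maps_sup hgQ fun c hc =>
    Subgroup.mem_sup_right (hg.mem_centralizerIn hVN hgVr (Subgroup.mem_sup_right hc) hc)) le_rfl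
  obtain ⟨η, hη, hηe⟩ := hg.exists_aut hgr
  -- the part of order prime to `p`
  have hβo : (orderOf (β : MulAut Q)).Coprime p := by rwa [Subgroup.orderOf_coe]
  have heo : (orderOf e).Coprime p := by
    refine Nat.Coprime.coprime_dvd_left (orderOf_dvd_of_pow_eq_one ?_) hβo
    have key : ∀ i : ℕ, ∀ y : V, (((e ^ i) y : V) : Ω) = ((((β : MulAut Q) ^ i) ⟨y, y.2.1⟩ : Q) : Ω) := by
      intro i
      induction i with
      | zero => intro y; simp
      | succ i ih =>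
        intro y
        simp only [pow_succ', MulAut.mul_apply]
        rw [hee]
        exact congrArg (fun z : Q => (((β : MulAut Q) z : Q) : Ω)) (Subtype.ext (ih y))
    refine MulEquiv.ext fun y => Subtype.ext ?_
    rw [key, pow_orderOf_eq_one]
    rfl
  obtain ⟨j, n, hn, hjn, hjV⟩ := CfsgLib.FusionLayer.exists_coprime_extension (p := p) hNR hVN heo (β := η)
    fun x => by
      rw [hηe, hee]
      exact hgV x
  set δ := η ^ j with hδ
  have hδD : δ ∈ D.autGroup N := Subgroup.pow_mem _ hη j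
  have hδT : ∀ w : N, (w : Ω)⁻¹ * ((δ w : N) : Ω) ∈ T := fun w => by
    refine (hD.2.2.1.le.trans (hyperfocal_le E p)) ?_
    have h1 : (⟨δ, hδD⟩ : D.autGroup N) ∈ pResidual p (D.autGroup N) :=
      CfsgLib.Transfer.mem_pResidual (by
        rw [← Subgroup.orderOf_coe]
        exact Nat.Coprime.coprime_dvd_left (orderOf_dvd_of_pow_eq_one hjn) hn)
    exact mem_hyperfocal hNR h1 w
  have hδQ : ∀ q : Q, ((δ ⟨q, hQN q.2⟩ : N) : Ω) ∈ Q := fun q => by
    set b : Q := (β : MulAut Q) q with hb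
    set d : N := δ ⟨q, hQN q.2⟩ with hd
    have huT : (b : Ω)⁻¹ * (d : Ω) ∈ T := by
      have h1 := T.mul_mem (T.inv_mem (hβT q).2) (hδT ⟨q, hQN q.2⟩)
      simpa [mul_assoc] using h1
    have hu : (b : Ω)⁻¹ * (d : Ω) ∈ centralizerIn T V := by
      refine Fusion.mem_centralizerIn'.mpr ⟨huT, fun y => ?_⟩
      set x : V := e⁻¹ y with hx
      have hqx : (q : Ω) * x * (q : Ω)⁻¹ ∈ V := FusionNormal.conj_mem_of_normalizer (hQnV q q.2) x.2
      have h4 : e x = y := MulAut.apply_inv_self _ e y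
      have h2 : δ (⟨q, hQN q.2⟩ * ⟨x, hVN x.2⟩ * (⟨q, hQN q.2⟩ : N)⁻¹) =
          δ ⟨_, hVN hqx⟩ := congrArg δ (Subtype.ext rfl)
      have h3 := congrArg Subtype.val h2
      rw [hjV ⟨_, hqx⟩, hee] at h3
      change _ = (((β : MulAut Q) (q * ⟨x, x.2.1⟩ * q⁻¹) : Q) : Ω) at h3
      simp only [map_mul, map_inv, Subgroup.coe_mul, Subgroup.coe_inv, ← hb, ← hd, ← hee, hjV x, h4] at h3
      calc (b : Ω)⁻¹ * (d : Ω) * (y : Ω) * ((b : Ω)⁻¹ * (d : Ω))⁻¹
          = (b : Ω)⁻¹ * ((d : Ω) * (y : Ω) * (d : Ω)⁻¹) * b := by group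
        _ = y := by rw [h3]; group
    have h5 := Q.mul_mem b.2 (hC hu).1
    rwa [mul_inv_cancel_left] at h5
  obtain ⟨l, hl, hle⟩ := (mem_autGroup_iff_mapFn hNR).mp hδD
  have hlQ := hl.mono hQN
  have hlQr : l '' Q = (Q : Set Ω) := hlQ.image_eq_of_maps hQR
    (fun x hx => by rw [hle ⟨x, hQN hx⟩]; exact hδQ ⟨x, hx⟩) le_rfl
  obtain ⟨γ, hγ, hγe⟩ := hlQ.exists_aut hlQr
  have hγd : ∀ x : Q, ((γ x : Q) : Ω) = ((δ ⟨x, hQN x.2⟩ : N) : Ω) := fun x =>
    (hγe x).trans (hle ⟨x, hQN x.2⟩)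
  -- `β γ⁻¹` stabilizes the series `1 ≤ Q ⊓ T ≤ Q`
  set a := (β : MulAut Q) * γ⁻¹ with ha
  have hγn : (orderOf γ).Coprime p := by
    refine Nat.Coprime.coprime_dvd_left (orderOf_dvd_of_pow_eq_one (n := n) ?_) hn
    have key : ∀ i : ℕ, ∀ x : Q, (((γ ^ i) x : Q) : Ω) = (((δ ^ i) ⟨x, hQN x.2⟩ : N) : Ω) := by
      intro i
      induction i with
      | zero => intro x; simp
      | succ i ih =>
        intro x
        simp only [pow_succ', MulAut.mul_apply]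
        rw [hγd]
        exact congrArg (fun z : N => ((δ z : N) : Ω)) (Subtype.ext (ih x))
    refine MulEquiv.ext fun x => Subtype.ext ?_
    rw [key, hjn]
    rfl
  have hγV : ∀ x : Q, (x : Ω) ∈ V → γ x = (β : MulAut Q) x := fun x hx => Subtype.ext (by
    rw [hγd]
    exact (hjV ⟨x, hx⟩).trans (hee ⟨x, hx⟩))
  have haV : ∀ x : Q, (x : Ω) ∈ V → a x = x := fun x hx => by
    obtain ⟨y, rfl⟩ := γ.surjective x
    have hy : (y : Ω) ∈ V := ⟨y.2, by
      obtain ⟨φ', hφ'⟩ := hlQ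
      have h1 : ((y : Q) : Ω) = γ.symm (γ y) := by simp
      obtain ⟨g', hg', -, hg'l, -⟩ := (mapFn_of_sub hD.2.1 hl |>.mono hQN).exists_inv hlQr
      have h2 := PPrimeRes.map_mem_of_sc hTsc hg' (γ y).2 hx.2
      rwa [hγe, hg'l _ y.2] at h2⟩
    rw [ha, MulAut.mul_apply, MulAut.inv_apply_self, hγV y hy]
  have haQ : ∀ x : Q, (x : Ω)⁻¹ * ((a x : Q) : Ω) ∈ V := fun x => by
    obtain ⟨y, rfl⟩ := γ.surjective x
    rw [ha, MulAut.mul_apply, MulAut.inv_apply_self]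
    have h1 : (y : Ω)⁻¹ * ((γ y : Q) : Ω) ∈ V :=
      ⟨Q.mul_mem (Q.inv_mem y.2) (Subtype.mem _), by rw [hγd]; exact hδT ⟨y, hQN y.2⟩⟩
    have h2 := V.mul_mem (V.inv_mem h1) (hβT y)
    simpa [mul_assoc] using h2
  have hγF : γ ∈ F.autGroup Q := PPrimeRes.autGroup_le_of_sub hRS hD.2.1 hQR hγ
  obtain ⟨s, hsS, hsn, hse⟩ := stab_mem hS hE hF hQ ⟨a, Subgroup.mul_mem _ β.2 (Subgroup.inv_mem _ hγF)⟩
    haV haQ
  -- `a` normalizes `Aut_D(Q)`
  set K := D.autGroup Q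
  have haK : ∀ k ∈ K, a * k * a⁻¹ ∈ K := fun k hk => by
    obtain ⟨fk, hfk, hfkr, hfke⟩ := exists_mapFn_of_aut hQR hk
    have hcR : (fun x => s * x * s⁻¹) '' R = (R : Set Ω) := by
      refine (mapFn_conj (F := F) hRS hsS).image_eq_of_maps hRS (fun x hx => ?_) le_rfl
      rw [← hR] at hx
      have h1 : MapFn F (T ⊔ Q) fun x => s * x * s⁻¹ := mapFn_conj (hR ▸ hRS) hsS
      rw [← hR]
      exact h1.maps_sup (fun t ht => Subgroup.mem_sup_left (FusionNormal.conj_mem_of_normalizer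
        (StronglyClosed.le_normalizer hTsc hsS) ht))
        (fun q hq => Subgroup.mem_sup_right (FusionNormal.conj_mem_of_normalizer hsn hq)) x hx
    have hcQ : (fun x => s * x * s⁻¹) '' Q = (Q : Set Ω) :=
      (mapFn_conj (F := F) hQS hsS).image_eq_of_maps hQS
        (fun x hx => FusionNormal.conj_mem_of_normalizer hsn hx) le_rfl
    obtain ⟨k', hk', hk'e⟩ := hD.conj hS hE hRE hTR hRS (mapFn_conj hRS hsS) hcR hD hfk hcQ
    refine (mem_autGroup_iff_mapFn hQR).mpr ⟨k', hk', fun x => ?_⟩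
    obtain ⟨y, rfl⟩ := a.surjective x
    show k' ((a y : Q) : Ω) = _
    rw [hse, hk'e y y.2, MulAut.mul_apply, MulAut.mul_apply, MulAut.inv_apply_self, hse, hfke]
  have hao : ∃ k, orderOf a = p ^ k := by
    obtain ⟨k, hk⟩ := (isPGroup_autInducedBy hS Q) ⟨a, mem_autInducedBy.mpr ⟨s, hsS, hse⟩⟩
    obtain ⟨i, -, hi⟩ := (Nat.dvd_prime_pow Fact.out).mp
      (orderOf_dvd_of_pow_eq_one (congrArg Subtype.val hk : a ^ p ^ k = 1))
    exact ⟨i, hi⟩
  have key : ∀ m : ℕ, (β : MulAut Q) ^ m * (a ^ m)⁻¹ ∈ K := by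
    intro m
    induction m with
    | zero => simp [K.one_mem]
    | succ m ih =>
      have h1 := haK _ (K.mul_mem hγ ih)
      have h2 : a * (γ * ((β : MulAut Q) ^ m * (a ^ m)⁻¹)) * a⁻¹ =
          (β : MulAut Q) ^ (m + 1) * (a ^ (m + 1))⁻¹ := by
        rw [pow_succ' (β : MulAut Q), pow_succ' a, show (β : MulAut Q) = a * γ from (inv_mul_cancel_right _ _).symm]
        group
      rwa [h2] at h1
  have ha1 : a ^ orderOf (β : MulAut Q) ∈ K := by
    have h1 := key (orderOf (β : MulAut Q))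
    rw [pow_orderOf_eq_one, one_mul] at h1
    exact (Subgroup.inv_mem_iff K).mp h1
  have ha2 : a ∈ K := by
    obtain ⟨i, hi⟩ := hao
    obtain ⟨r, hr₁, hr₂⟩ := Nat.chineseRemainder (hβo.pow_right i) 0 1
    obtain ⟨c, rfl⟩ := Nat.modEq_zero_iff_dvd.mp hr₁
    have h1 : a ^ (orderOf (β : MulAut Q) * c) = a ^ 1 := pow_eq_pow_iff_modEq.mpr (hi ▸ hr₂)
    rw [pow_one, pow_mul] at h1
    exact h1 ▸ K.pow_mem ha1 c
  have hfin : (β : MulAut Q) = a * γ := (inv_mul_cancel_right _ _).symm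
  exact hfin ▸ K.mul_mem ha2 hγ

end CfsgLib.EBalance
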