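import Cfsg.Agent.Lib.Fusion.EBalance.Frattini

/-!
# The Frattini factorization theorem relative to a normal subsystem
-/

set_option autoImplicit false
set_option linter.unusedSectionVars false

namespace CfsgLib.EBalance

open Cfsg Cfsg.FusionSystem CfsgLib.Fusion CfsgLib.FusionNormal CfsgLib.FusionTransport

universe u

variable {Ω : Type u} [Group Ω] {S T Q Q' : Subgroup Ω} {F : FusionSystem S} {E : FusionSystem T} {p : ℕ}
variable [Finite S] [Fact p.Prime]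
variable (hS : IsPGroup p S) (hF : F.IsSaturated p) (hE : E.IsNormalIn F p) (hRE : HasRE F E p)

omit [Fact p.Prime] in
/-- Maps respect the intersection with a strongly closed subgroup. -/
theorem image_inter (hT : F.StronglyClosed T) {f : Ω → Ω} (hf : MapFn F Q f) (hr : f '' Q = (Q' : Set Ω)) :
    f '' ((Q ⊓ T : Subgroup Ω) : Set Ω) = ((Q' ⊓ T : Subgroup Ω) : Set Ω) := by
  obtain ⟨g, hg, -, hgf, -⟩ := hf.exists_inv hr
  ext y
  constructor
  · rintro ⟨x, hx, rfl⟩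
    exact ⟨mem_of_image hr hx.1, PPrimeRes.map_mem_of_sc hT hf hx.1 hx.2⟩
  · rintro ⟨hy, hyT⟩
    obtain ⟨x, hx, rfl⟩ := exists_of_image hr hy
    have h := PPrimeRes.map_mem_of_sc hT hg hy hyT
    rw [hgf x hx] at h
    exact ⟨x, ⟨hx, h⟩, rfl⟩

omit [Fact p.Prime] in
theorem card_inter (hT : F.StronglyClosed T) {f : Ω → Ω} (hf : MapFn F Q f) (hr : f '' Q = (Q' : Set Ω)) :
    Nat.card ↥(Q' ⊓ T) = Nat.card ↥(Q ⊓ T) :=
  (hf.mono inf_le_left).card_image (image_inter hT hf hr)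

include hS hE in
/-- Restrictions of maps on normalizers factor, by induction. -/
theorem frat_of_normalizer
    (IH : ∀ (N : Subgroup Ω) (g : Ω → Ω), Nat.card ↥(Q ⊓ T) < Nat.card ↥(N ⊓ T) → MapFn F N g →
      Frat F E p N g)
    (hQ : Q ≤ S) (hTQ : ¬ T ≤ Q) {f : Ω → Ω} (hf : MapFn F (normalizerIn S Q) f) : Frat F E p Q f := by
  have hTsc := hE.1.2.2.2.1
  obtain ⟨c, hc, hcQ, hcn⟩ := exists_normalizing hS hQ hTsc.1 (fun q hq t ht =>
    FusionNormal.conj_mem_of_normalizer (StronglyClosed.le_normalizer hTsc (hQ hq)) ht) hTQ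
  set N := Q ⊔ normalizerIn T Q with hN
  have hlt : Nat.card ↥(Q ⊓ T) < Nat.card ↥(N ⊓ T) := by
    refine card_lt_card (S := S) (inf_le_right.trans hTsc.1)
      (lt_of_le_of_ne (inf_le_inf_right _ le_sup_left) fun h => hcQ ?_)
    exact (h.ge ⟨Subgroup.mem_sup_right ⟨hc, hcn⟩, hc⟩).1
  exact (IH N f hlt (hf.mono (sup_le (le_normalizerIn hQ) (inf_le_inf_right _ hTsc.1)))).restrict
    le_sup_left (sup_le le_sup_right (normalizerIn_le.trans le_sup_left))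

include hS hF hE hRE in
/-- The automorphism group of a suitably normalized subgroup factors, by induction. -/
theorem frat_aut
    (IH : ∀ (N : Subgroup Ω) (g : Ω → Ω), Nat.card ↥(Q ⊓ T) < Nat.card ↥(N ⊓ T) → MapFn F N g →
      Frat F E p N g)
    (hQ : F.IsFullyNormalized Q) (hQ₀ : F.IsFullyNormalized (Q ⊓ T)) (hTQ : ¬ T ≤ Q) {f : Ω → Ω}
    (hf : MapFn F Q f) (hr : f '' Q = (Q : Set Ω)) : Frat F E p Q f := by
  have hTsc := hE.1.2.2.2.1
  have hTS : T ≤ S := hTsc.1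
  have hQS : Q ≤ S := hQ.1
  have := finite_mulAut hQS
  have := finite_of_le hQS
  obtain ⟨hQa, hQr⟩ := fullyNormalized_good hS hF hQ
  obtain ⟨G, hG⟩ := exists_fratAut (Q := Q) hS hE hRE hQS
  suffices hall : ∀ α : F.autGroup Q, α ∈ G by
    obtain ⟨α, hα, hαe⟩ := hf.exists_aut hr
    obtain ⟨k, hk, hke⟩ := (hG ⟨α, hα⟩).mp (hall _)
    exact hk.congr fun x hx => (hke ⟨x, hx⟩).trans (hαe ⟨x, hx⟩)
  have hQnT : ∀ {q : Ω}, q ∈ S → ∀ {x : Ω}, x ∈ T → q * x * q⁻¹ ∈ T := fun hq _ hx =>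
    FusionNormal.conj_mem_of_normalizer (StronglyClosed.le_normalizer hTsc hq) hx
  -- a conjugation by `t` carried to a conjugation gives the factorization
  have hext : ∀ (α : F.autGroup Q) (t : Ω), t ∈ T → t ∉ Q → t ∈ Subgroup.normalizer (Q : Set Ω) →
      ∀ (ct : F.autGroup Q), (∀ x : Q, (((ct : MulAut Q) x : Q) : Ω) = t * (x : Ω) * t⁻¹) →
      (∃ s ∈ S, ∀ x : Q, ((((α * ct * α⁻¹ : F.autGroup Q) : MulAut Q) x : Q) : Ω) = s * (x : Ω) * s⁻¹) →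
      α ∈ G := by
    intro α t ht htQ htn ct hct ⟨s, hs, hse⟩
    obtain ⟨φ, hφ, hφr, hφe⟩ := exists_map_of_mem_autGroup hQS α.2
    obtain ⟨k, hk, hke⟩ := mapFn_of_hom hφ
    refine (hG α).mpr ⟨k, frat_of_extender hS hE hRE IH hQr hφ hφr ht htQ ?_ hke, fun x =>
      (hke x).symm.trans (hφe x)⟩
    refine mem_extender.mpr ⟨hTS ht, htn, s, hs, fun x hx => ?_⟩
    rw [hφe, hφe, ← hse]
    show _ = (((α : MulAut Q) ((ct : MulAut Q) ((α : MulAut Q)⁻¹ ((α : MulAut Q) x))) : Q) : Ω)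
    rw [MulAut.inv_apply_self, show (ct : MulAut Q) x = ⟨_, hx⟩ from Subtype.ext (hct x)]
  have hmkc : ∀ t : Ω, t ∈ S → t ∈ Subgroup.normalizer (Q : Set Ω) →
      ∃ ct : F.autGroup Q, ((ct : MulAut Q) ∈ autInducedBy S Q) ∧
        ∀ x : Q, (((ct : MulAut Q) x : Q) : Ω) = t * (x : Ω) * t⁻¹ := fun t ht htn => by
    obtain ⟨c, hc, hce⟩ := exists_autInducedBy (K := S) ht htn
    exact ⟨⟨c, autInducedBy_le_autGroup hQS hc⟩, hc, hce⟩
  have hcomm : ∀ t ∈ T, ∀ x : Q, t * (x : Ω) * t⁻¹ ∈ Q → (x : Ω)⁻¹ * (t * x * t⁻¹) ∈ Q ⊓ T :=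
    fun t ht x hx => ⟨Q.mul_mem (Q.inv_mem x.2) hx, by
      have h1 := T.mul_mem (hQnT (S.inv_mem (hQS x.2)) ht) (T.inv_mem ht)
      rw [inv_inv] at h1
      simpa [mul_assoc] using h1⟩
  by_cases hC : centralizerIn T (Q ⊓ T) ≤ Q ⊓ T
  swap
  · -- a centralizing element extends every automorphism
    have hCn : ∀ q ∈ Q, ∀ c ∈ centralizerIn T (Q ⊓ T), q * c * q⁻¹ ∈ centralizerIn T (Q ⊓ T) := by
      intro q hq c hc
      obtain ⟨hcT, hcc⟩ := Fusion.mem_centralizerIn.mp hc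
      refine Fusion.mem_centralizerIn.mpr ⟨hQnT (hQS hq) hcT, fun x hx => ?_⟩
      have hx' : q⁻¹ * x * q⁻¹⁻¹ ∈ Q ⊓ T :=
        ⟨Q.mul_mem (Q.mul_mem (Q.inv_mem hq) hx.1) (Q.inv_mem (Q.inv_mem hq)),
          hQnT (S.inv_mem (hQS hq)) hx.2⟩
      calc x * (q * c * q⁻¹) = q * ((q⁻¹ * x * q⁻¹⁻¹) * c) * q⁻¹ := by group
        _ = q * c * q⁻¹ * x := by rw [hcc _ hx']; group
    obtain ⟨t, ht, htQ, htn⟩ := exists_normalizing hS hQS (centralizerIn_le.trans hTS) hCn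
      fun h => hC (le_inf h centralizerIn_le)
    obtain ⟨htT, htc⟩ := Fusion.mem_centralizerIn'.mp ht
    obtain ⟨ct, -, hct⟩ := hmkc t (hTS htT) htn
    intro α
    obtain ⟨s, hs, -, hse⟩ := stab_mem hS hE hF hQ (α * ct * α⁻¹ : F.autGroup Q) (fun x hx => by
      show (α : MulAut Q) ((ct : MulAut Q) ((α : MulAut Q)⁻¹ x)) = x
      have hy : (((α : MulAut Q)⁻¹ x : Q) : Ω) ∈ Q ⊓ T :=
        ⟨Subtype.mem _, StronglyClosed.aut_mem hTsc hQS (Subgroup.inv_mem _ α.2) x hx.2⟩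
      rw [show (ct : MulAut Q) ((α : MulAut Q)⁻¹ x) = (α : MulAut Q)⁻¹ x from
        Subtype.ext ((hct _).trans (htc ⟨_, hy⟩)), MulAut.apply_inv_self])
      (fun x => by
        show (x : Ω)⁻¹ * (((α : MulAut Q) ((ct : MulAut Q) ((α : MulAut Q)⁻¹ x)) : Q) : Ω) ∈ Q ⊓ T
        set y := (α : MulAut Q)⁻¹ x with hy
        have hx : x = (α : MulAut Q) y := (MulAut.apply_inv_self _ _ _).symm
        have h1 : ((y⁻¹ * (ct : MulAut Q) y : Q) : Ω) ∈ T := by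
          rw [Subgroup.coe_mul, Subgroup.coe_inv, hct]
          exact (hcomm t htT y (hct y ▸ Subtype.mem _)).2
        have h2 := StronglyClosed.aut_mem hTsc hQS α.2 _ h1
        rw [map_mul, map_inv, ← hx] at h2
        exact ⟨Q.mul_mem (Q.inv_mem x.2) (Subtype.mem _), h2⟩)
    exact hext α t htT htQ htn ct hct ⟨s, hs, hse⟩
  -- automorphisms trivial on `Q / Q ⊓ T` and in `E` on `Q ⊓ T`
  have hinv := stronglyInvariant_of_invariant hE.1.2.2
  let r : F.autGroup Q →* MulAut ↥(Q ⊓ T) :=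
    MonoidHom.mk' (interAut hTsc hQS) fun a b => MulEquiv.ext fun x => Subtype.ext rfl
  have hrF : ∀ g : F.autGroup Q, r g ∈ F.autGroup (Q ⊓ T) := fun g =>
    (mem_autGroup (inf_le_left.trans hQS)).mpr
      (restrict_of inf_le_left ((mem_autGroup hQS).mp g.2) fun _ => rfl)
  let M : Subgroup (F.autGroup Q) :=
    { carrier := {γ | (∀ x : Q, (x : Ω)⁻¹ * (((γ : MulAut Q) x : Q) : Ω) ∈ Q ⊓ T) ∧
        r γ ∈ E.autGroup (Q ⊓ T)}
      one_mem' := ⟨fun x => by simp, by rw [map_one]; exact Subgroup.one_mem _⟩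
      mul_mem' := fun {a b} ha hb => ⟨fun x => by
          have := (Q ⊓ T).mul_mem (hb.1 x) (ha.1 ((b : MulAut Q) x))
          simpa [mul_assoc] using this, by rw [map_mul]; exact Subgroup.mul_mem _ ha.2 hb.2⟩
      inv_mem' := fun {a} ha => ⟨fun x => by
          have := (Q ⊓ T).inv_mem (ha.1 ((a : MulAut Q)⁻¹ x))
          rw [MulAut.apply_inv_self] at this
          simpa using this, by rw [map_inv]; exact Subgroup.inv_mem _ ha.2⟩ }
  have hMn : M.Normal := ⟨fun a ha g => ⟨fun x => by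
      show (x : Ω)⁻¹ * ((((g : MulAut Q) ((a : MulAut Q) ((g : MulAut Q)⁻¹ x)) : Q)) : Ω) ∈ Q ⊓ T
      set y := (g : MulAut Q)⁻¹ x with hy
      have hx : x = (g : MulAut Q) y := (MulAut.apply_inv_self _ _ _).symm
      have h4 := StronglyClosed.aut_mem hTsc hQS g.2 (y⁻¹ * (a : MulAut Q) y) (ha.1 y).2
      rw [map_mul, map_inv, ← hx] at h4
      exact ⟨Q.mul_mem (Q.inv_mem x.2) (Subtype.mem _), h4⟩,
    by
      rw [map_mul, map_mul, map_inv]
      exact autGroup_conj_mem_of_strong hinv inf_le_right hTS ha.2 (hrF g)⟩⟩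
  obtain ⟨-, R, hR⟩ := hQa
  have hRG : ∀ γ : F.autGroup Q, (γ : MulAut Q) ∈ autInducedBy S Q → γ ∈ G := fun γ hγ => by
    obtain ⟨s, hs, hse⟩ := mem_autInducedBy.mp hγ
    exact (hG γ).mpr ⟨fun x => s * x * s⁻¹,
      Frat.of_ext hS hE hRE (mapFn_conj (sup_le hTS hQS) hs) (fun _ _ => rfl), fun x => (hse x).symm⟩
  -- `M` factors
  have hMG : M ≤ G := by
    obtain ⟨U, hU⟩ := exists_sylow_inf R M
    have htop : G.subgroupOf M = ⊤ := by
      refine CfsgLib.Transfer.eq_top_of_pResidual_le (p := p)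
        (CfsgLib.Transfer.pResidual_le_iff.mpr fun β hβ => ?_) fun hd => U.not_dvd_index
          (hd.trans (Subgroup.index_dvd_of_le fun γ hγ => ?_))
      · obtain ⟨D, hD, -⟩ := hRE (T ⊔ Q) le_sup_left (sup_le hTS hQS)
        have hmem := mapFn_of_coprime_aut hS hE hF hRE hD rfl hQ hQ₀ hC (β := (β : F.autGroup Q))
          (by rwa [Subgroup.orderOf_coe]) β.2.1 β.2.2 fun _ => rfl
        obtain ⟨k, hk, -, hke⟩ := exists_mapFn_of_aut (le_sup_right : Q ≤ T ⊔ Q) hmem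
        exact Subgroup.mem_subgroupOf.mpr ((hG β).mpr
          ⟨k, ⟨_, D, id, k, rfl, hD, hk, mapFn_id (sup_le hTS hQS), fun _ _ => rfl⟩, hke⟩)
      · rw [hU] at hγ
        exact Subgroup.mem_subgroupOf.mpr (hRG _ (hR.le (Subgroup.mem_subgroupOf.mp hγ).1))
    exact Subgroup.subgroupOf_eq_top.mp htop
  intro α
  obtain ⟨k, hk, m, hm, rfl⟩ := exists_mul_of_normal R M α
  refine G.mul_mem ?_ (hMG hm)
  obtain ⟨t, ht, htQ, htn⟩ := exists_normalizing hS hQS hTS (fun q hq x hx => hQnT (hQS hq) hx) hTQ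
  obtain ⟨ct, hctS, hct⟩ := hmkc t (hTS ht) htn
  have hctM : ct ∈ M := by
    refine ⟨fun x => by rw [hct]; exact hcomm t ht x (hct x ▸ Subtype.mem _), ?_⟩
    exact (mem_autGroup inf_le_right).mpr (mem_of_conj inf_le_right ht fun x => hct ⟨x, x.2.1⟩)
  obtain ⟨s, hs, hse⟩ := mem_autInducedBy.mp
    (hR.le ((Subgroup.mem_normalizer_iff.mp hk ct).mp ⟨hR.ge hctS, hctM⟩).1)
  exact hext k t ht htQ htn ct hct ⟨s, hs, hse⟩

include hS hF hE hRE in
/-- Every map factors. -/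
theorem frattini {f : Ω → Ω} (hf : MapFn F Q f) : Frat F E p Q f := by
  have hTsc := hE.1.2.2.2.1
  suffices H : ∀ (n : ℕ) (Q : Subgroup Ω) (f : Ω → Ω), Nat.card T - Nat.card ↥(Q ⊓ T) < n →
      MapFn F Q f → Frat F E p Q f from H _ Q f (Nat.lt_succ_self _) hf
  intro n
  induction n with
  | zero => intros; omega
  | succ n ih =>
  intro Q f hn hf
  have hQS := hf.le_S
  by_cases hTQ : T ≤ Q
  · exact Frat.of_ext hS hE hRE ((sup_eq_right.mpr hTQ).symm ▸ hf) fun _ _ => rfl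
  have IH : ∀ {P : Subgroup Ω}, Nat.card ↥(P ⊓ T) = Nat.card ↥(Q ⊓ T) → ∀ (N : Subgroup Ω) (g : Ω → Ω),
      Nat.card ↥(P ⊓ T) < Nat.card ↥(N ⊓ T) → MapFn F N g → Frat F E p N g := by
    intro P hP N g hlt hg
    have := finite_of_le hTsc.1
    have h1 : Nat.card ↥(N ⊓ T) ≤ Nat.card T := Subgroup.card_le_of_le inf_le_right
    exact ih N g (by omega) hg
  have hnle : ∀ {P : Subgroup Ω}, Nat.card ↥(P ⊓ T) = Nat.card ↥(Q ⊓ T) → ¬ T ≤ P := fun {P} hP hle => by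
    rw [inf_eq_right.mpr hle] at hP
    have := finite_of_le hTsc.1
    exact hTQ ((Fusion.eq_of_le_of_card_le (inf_le_right : Q ⊓ T ≤ T) hP.le).ge.trans inf_le_left)
  -- a normalized conjugate
  obtain ⟨Q₁, f₁, hQ₁n, hf₁, hf₁Q, -⟩ := exists_fullyNormalized_mapFn hS hF hQS
  obtain ⟨V, f₂, hVn, hf₂, hf₂V, -⟩ :=
    exists_fullyNormalized_mapFn hS hF (inf_le_left.trans hQ₁n.1 : Q₁ ⊓ T ≤ S)
  have hN : normalizerIn S Q₁ ≤ normalizerIn S (Q₁ ⊓ T) := fun g hg => by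
    have := finite_of_le (inf_le_left.trans hQ₁n.1 : Q₁ ⊓ T ≤ S)
    exact ⟨hg.1, Fusion.mem_normalizer_of_forall fun x hx => ⟨FusionNormal.conj_mem_of_normalizer hg.2 hx.1,
      FusionNormal.conj_mem_of_normalizer (StronglyClosed.le_normalizer hTsc hg.1) hx.2⟩⟩
  have hQ₁N : Q₁ ≤ normalizerIn S (Q₁ ⊓ T) := (le_normalizerIn hQ₁n.1).trans hN
  obtain ⟨Q₂, hQ₂S, hf₂Q⟩ := (hf₂.mono hQ₁N).exists_image
  have hV : Q₂ ⊓ T = V := SetLike.coe_injective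
    ((image_inter hTsc (hf₂.mono hQ₁N) hf₂Q).symm.trans hf₂V)
  have hc₁ : F.IsConj Q Q₁ := (hf₁.mono (le_normalizerIn hQS)).isConj hf₁Q
  have hc₂ : F.IsConj Q₁ Q₂ := (hf₂.mono hQ₁N).isConj hf₂Q
  have hQ₂n : F.IsFullyNormalized Q₂ := by
    refine ⟨hQ₂S, fun W hW => (hQ₁n.2 W (isConj_trans hc₂ hW)).trans ?_⟩
    obtain ⟨χ, hχ, hχe⟩ := hf₂.mono hN
    exact card_le_of_map hχ normalizerIn_le fun g => by
      rw [hχe]; exact hf₂.mem_normalizerIn hQ₁N hf₂Q (hN g.2) g.2.2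
  obtain ⟨Q', -, hfQ⟩ := hf.exists_image
  have hcf : F.IsConj Q Q₂ := isConj_trans hc₁ hc₂
  obtain ⟨θ, hθ, hθQ, -⟩ := exists_normalizer_mapFn hS hF hQ₂n hcf
  obtain ⟨θ', hθ', hθ'Q, -⟩ :=
    exists_normalizer_mapFn hS hF hQ₂n (isConj_trans (isConj_symm (hf.isConj hfQ)) hcf)
  have hQ'S : Q' ≤ S := IsConj.le_right (hf.isConj hfQ)
  have hcard' := card_inter hTsc hf hfQ
  have hcard₂ := card_inter hTsc (hθ.mono (le_normalizerIn hQS)) hθQ
  have h1 := frat_of_normalizer hS hE (IH rfl) hQS hTQ hθ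
  have h2 := frat_of_normalizer hS hE (IH hcard') hQ'S (hnle hcard') hθ'
  obtain ⟨θi, hθi, hθir, hθiθ, hθθi⟩ := h1.mapFn.exists_inv hθQ
  have hmid : MapFn F Q₂ (θ' ∘ f ∘ θi) :=
    (hθi.comp hf fun x hx => mem_of_image hθir hx).comp h2.mapFn fun x hx =>
      mem_of_image hfQ (mem_of_image hθir hx)
  have hmidr : (θ' ∘ f ∘ θi) '' Q₂ = (Q₂ : Set Ω) := by
    rw [Set.image_comp, Set.image_comp, hθir, hfQ, hθ'Q]
  have h3 := frat_aut hS hF hE hRE (IH hcard₂) hQ₂n (hV.symm ▸ hVn) (hnle hcard₂) hmid hmidr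
  obtain ⟨θ'i, hθ'i, -, hθ'iθ, -⟩ := h2.mapFn.exists_inv hθ'Q
  have h4 := (h1.comp hS hE hRE hθQ h3).comp hS hE hRE (image_comp hθQ hmidr)
    (h2.inv hS hE hRE hθ'Q hθ'iθ)
  refine h4.congr fun x hx => ?_
  show θ'i (θ' (f (θi (θ x)))) = f x
  rw [hθiθ x hx, hθ'iθ _ (mem_of_image hfQ hx)]

end CfsgLib.EBalance
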