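import Cfsg.Agent.Lib.Fusion.EBalance.FrattiniTheorem
import Cfsg.Agent.Lib.Fusion.ConstrainedLocal

/-!
# The normalizer of `X` in the system over `T ⊔ X`

For `X` fully normalized, the normalizer system of `X` in the system `D` over `T ⊔ X` is weakly normal
in the normalizer system of `X` in `F`; so its `p'`-residual is normal there.
-/

set_option autoImplicit false
set_option linter.unusedSectionVars false

namespace CfsgLib.EBalance

open Cfsg Cfsg.FusionSystem CfsgLib.Fusion CfsgLib.FusionNormal CfsgLib.FusionTransport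
  CfsgLib.FusionLocal

universe u

variable {Ω : Type u} [Group Ω] {S T X R : Subgroup Ω} {F : FusionSystem S} {E : FusionSystem T}
  {D : FusionSystem R} {p : ℕ} [Finite S] [Fact p.Prime]
variable (hS : IsPGroup p S) (hF : F.IsSaturated p) (hE : E.IsNormalIn F p) (hRE : HasRE F E p)

include hS hE in
/-- Elements of `T ⊔ V` as products. -/
theorem exists_mul_of_mem_sup {V : Subgroup Ω} (hV : V ≤ S) {x : Ω} (hx : x ∈ T ⊔ V) :
    ∃ t ∈ T, ∃ v ∈ V, x = t * v := by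
  have h : x ∈ ((T ⊔ V : Subgroup Ω) : Set Ω) := hx
  rw [Subgroup.coe_mul_of_right_le_normalizer_left T V
    (hV.trans (StronglyClosed.le_normalizer hE.1.2.2.2.1))] at h
  obtain ⟨t, ht, v, hv, htv⟩ := Set.mem_mul.mp h
  exact ⟨t, ht, v, hv, htv.symm⟩

include hS hF hE in
/-- `X` stays fully normalized in the system over `T ⊔ X`. -/
theorem IsRE.fullyNormalized (hX : F.IsFullyNormalized X) (hR : T ⊔ X = R) (hD : IsRE F E p D) :
    D.IsFullyNormalized X := by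
  have hTsc := hE.1.2.2.2.1
  have hTR : T ≤ R := hR ▸ le_sup_left
  have hXR : X ≤ R := hR ▸ le_sup_right
  have hRS : R ≤ S := hR ▸ sup_le hTsc.1 hX.1
  refine ⟨hXR, fun V hV => ?_⟩
  obtain ⟨d, hd, hdr⟩ := isConj_iff.mp hV
  have hTV : T ⊔ V = R := hD.image_sup hS hTR hRS hR hd hdr
  have hVS : V ≤ S := (hTV ▸ le_sup_right : V ≤ R).trans hRS
  obtain ⟨f, hf, hfV, hfm⟩ := exists_normalizer_mapFn hS hF hX
    (isConj_symm ((mapFn_of_sub hD.2.1 hd).isConj hdr))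
  have hle : normalizerIn R V ≤ normalizerIn S V := inf_le_inf_right _ hRS
  obtain ⟨χ, hχ, hχe⟩ := hf.mono hle
  refine card_le_of_map hχ (normalizerIn_le.trans hRS) fun g => ?_
  rw [hχe]
  refine ⟨?_, (hfm _ (hle g.2)).2⟩
  obtain ⟨t, ht, v, hv, hg⟩ := exists_mul_of_mem_sup hS hE hVS (hTV.symm ▸ g.2.1 : (g : Ω) ∈ T ⊔ V)
  have hv' : v ∈ normalizerIn S V := le_normalizerIn hVS hv
  have ht' : t ∈ normalizerIn S V := by
    have := (normalizerIn S V).mul_mem (hle g.2) ((normalizerIn S V).inv_mem hv')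
    rwa [hg, mul_inv_cancel_right] at this
  rw [hg, hf.map_mul ht' hv']
  exact R.mul_mem (hTR (PPrimeRes.map_mem_of_sc hTsc hf ht' ht)) (hXR (mem_of_image hfV hv))

include hS hF hE hRE in
/-- The normalizer of `X` in the system over `T ⊔ X` is weakly normal in the normalizer of `X` in `F`. -/
theorem nrmSys_weaklyNormal (hX : F.IsFullyNormalized X) (hR : T ⊔ X = R) (hD : IsRE F E p D)
    (hXR : X ≤ R) : (nrmSys D hXR).IsWeaklyNormalIn (nrmSys F hX.1) p := by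
  have hTsc := hE.1.2.2.2.1
  have hTS : T ≤ S := hTsc.1
  have hXS : X ≤ S := hX.1
  have hTR : T ≤ R := hR ▸ le_sup_left
  have hRS : R ≤ S := hR ▸ sup_le hTS hXS
  have := finite_of_le hRS
  set A := normalizerIn S X with hA
  set B := normalizerIn R X with hB
  have : Finite A := finite_of_le normalizerIn_le
  have hAp : IsPGroup p A := hS.to_le normalizerIn_le
  have hBA : B ≤ A := inf_le_inf_right _ hRS
  have hNs : (nrmSys F hXS).IsSaturated p :=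
    normalizerSystem_saturated hS hF hX fun P => nrmSys_hom hXS P
  have hDs : (nrmSys D hXR).IsSaturated p :=
    normalizerSystem_saturated (hS.to_le hRS) hD.1 (hD.fullyNormalized hS hF hE hX hR)
      fun P => nrmSys_hom hXR P
  have hsub : (nrmSys D hXR).IsSubsystemOf (nrmSys F hXS) := fun P =>
    hom_subset_iff_mapFn.mpr fun f hf => by
      obtain ⟨hP, g, hg, hgP, hgX⟩ := mapFn_nrmSys.mp hf
      exact mapFn_nrmSys.mpr ⟨hP.trans hBA, g, mapFn_of_sub hD.2.1 hg, hgP, hgX⟩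
  -- `B` is strongly closed
  have hBsc : (nrmSys F hXS).StronglyClosed B := by
    refine ⟨hBA, fun P hP φ hφ x => ?_⟩
    obtain ⟨f, hf, hfe⟩ := mapFn_of_hom hφ
    obtain ⟨-, g, hg, hgP, hgX⟩ := mapFn_nrmSys.mp hf
    refine ⟨?_, ((nrmSys F hXS).le_of_mem hφ).2 x |>.2⟩
    obtain ⟨t, ht, v, hv, hx⟩ := exists_mul_of_mem_sup hS hE hXS (hR.symm ▸ (hP x.2).1 : (x : Ω) ∈ T ⊔ X)
    have hv' : v ∈ P ⊔ X := Subgroup.mem_sup_right hv
    have ht' : t ∈ P ⊔ X := by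
      have := (P ⊔ X).mul_mem (Subgroup.mem_sup_left x.2) ((P ⊔ X).inv_mem hv')
      rwa [hx, mul_inv_cancel_right] at this
    rw [hfe, ← hgP x x.2, hx, hg.map_mul ht' hv']
    exact R.mul_mem (hTR (PPrimeRes.map_mem_of_sc hTsc hg ht' ht)) (hXR (mem_of_image hgX hv))
  refine ⟨hDs, hNs, (invariant_iff_strong hAp hNs hsub hBsc).mpr ?_⟩
  intro P Q hPQ hQ φ hφ hφQ ψ hψ
  obtain ⟨f, hf, hfe⟩ := mapFn_of_hom hφ
  obtain ⟨h, hh, hhe⟩ := mapFn_of_hom hψ
  obtain ⟨hP, gφ, hgφ, hgφP, hgφX⟩ := mapFn_nrmSys.mp hf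
  obtain ⟨hQA, gψ, hgψ, hgψQ, hgψX⟩ := mapFn_nrmSys.mp hh
  set Qd := Q ⊔ X with hQd
  set Pd := P ⊔ X with hPd
  have hQdR : Qd ≤ R := sup_le (hQ.trans normalizerIn_le) hXR
  have hPdQd : Pd ≤ Qd := sup_le_sup_right hPQ X
  have hgφm : ∀ x ∈ Pd, gφ x ∈ Qd := hgφ.maps_sup
    (fun x hx => Subgroup.mem_sup_left (by
      rw [hgφP x hx, ← hfe ⟨x, hx⟩]; exact hφQ ⟨x, hx⟩))
    (fun x hx => Subgroup.mem_sup_right (mem_of_image hgφX hx))
  -- factor the extension of `ψ`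
  obtain ⟨R₁, D₁, a, d, hR₁, hD₁, hd, ha, he⟩ := frattini hS hF hE hRE hgψ
  have hR₁R : R₁ = R := by
    rw [← hR₁]
    exact le_antisymm (sup_le hTR hQdR) (hR ▸ sup_le_sup_left le_sup_right T)
  subst hR₁R
  obtain rfl := hRE.eq hTR hRS hD₁ hD
  obtain ⟨Q₂, hQ₂S, hQ₂⟩ := hgψ.exists_image
  obtain ⟨Q₁, hQ₁, haQ, -, haR⟩ := Frat.exists_image hS hE hR₁ hD₁ hd ha he hQ₂
  have hQ₂R : T ⊔ Q₂ = R₁ := by
    refine le_antisymm (sup_le hTR fun y hy => ?_) (hR ▸ sup_le_sup_left (fun y hy => ?_) T)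
    · obtain ⟨x, hx, rfl⟩ := exists_of_image hQ₂ hy
      refine hgψ.maps_sup (fun z hz => ?_) (fun z hz => hXR (mem_of_image hgψX hz)) x hx
      rw [hgψQ z hz, ← hhe ⟨z, hz⟩]
      exact normalizerIn_le (hBsc.2 Q hQ ψ hψ ⟨z, hz⟩)
    · obtain ⟨x, hx, rfl⟩ := exists_of_image hgψX hy
      exact mem_of_image hQ₂ (Subgroup.mem_sup_right hx)
  rw [hQ₂R] at haR
  obtain ⟨P₁, hP₁R, hP₁⟩ := (hd.mono hPdQd).exists_image
  obtain ⟨di, hdi, hdir, hdid, -⟩ := hd.exists_inv hQ₁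
  have hP₁Q : P₁ ≤ Q₁ := fun y hy => by
    obtain ⟨x, hx, rfl⟩ := exists_of_image hP₁ hy
    exact mem_of_image hQ₁ (hPdQd hx)
  have hdiP : ∀ y ∈ P₁, di y ∈ Pd := fun y hy => by
    obtain ⟨x, hx, rfl⟩ := exists_of_image hP₁ hy
    rwa [hdid x (hPdQd hx)]
  have hφ₁ : MapFn D₁ P₁ (d ∘ gφ ∘ di) :=
    (((hdi.mono hP₁Q).comp hgφ hdiP).comp hd fun y hy => hgφm _ (hdiP y hy))
  obtain ⟨P₂, -, hP₂⟩ := (ha.mono hP₁R).exists_image
  obtain ⟨k, hk, hke⟩ := hD₁.conj hS hE hRE hTR hRS ha haR hD₁ hφ₁ hP₂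
  have hkg : ∀ x ∈ Pd, gψ x ∈ P₂ ∧ k (gψ x) = gψ (gφ x) := fun x hx => by
    rw [he x (hPdQd hx)]
    refine ⟨mem_of_image hP₂ (mem_of_image hP₁ hx), ?_⟩
    rw [hke _ (mem_of_image hP₁ hx), he _ (hgφm x hx)]
    show a (d (gφ (di (d x)))) = _
    rw [hdid x (hPdQd hx)]
  have hψg : ∀ x : P, ψ (Subgroup.inclusion hPQ x) = gψ x := fun x => by
    rw [hgψQ x (hPQ x.2), hhe]
    rfl
  set P' := (P.subgroupOf Q).map ψ with hP'
  have hP'B : P' ≤ B := by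
    rintro _ ⟨x, hx, rfl⟩
    exact hBsc.2 Q hQ ψ hψ x
  have hle : P' ⊔ X ≤ P₂ := by
    refine sup_le ?_ fun y hy => ?_
    · rintro _ ⟨x, hx, rfl⟩
      rw [show ψ x = gψ x from (hhe x).trans (hgψQ x x.2).symm]
      exact (hkg x (Subgroup.mem_sup_left hx)).1
    · obtain ⟨x, hx, rfl⟩ := exists_of_image hgψX hy
      exact (hkg x (Subgroup.mem_sup_right hx)).1
  have hkX : k '' X = (X : Set Ω) := by
    refine (hk.mono (le_sup_right.trans hle)).image_eq_of_maps hXR (fun y hy => ?_) le_rfl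
    obtain ⟨x, hx, rfl⟩ := exists_of_image hgψX hy
    rw [(hkg x (Subgroup.mem_sup_right hx)).2]
    exact mem_of_image hgψX (mem_of_image hgφX hx)
  obtain ⟨χ, hχ, hχe⟩ : MapFn (nrmSys D₁ hXR) P' k :=
    mapFn_nrmSys.mpr ⟨hP'B, k, hk.mono hle, fun _ _ => rfl, hkX⟩
  refine ⟨χ, hχ, fun x hx => ?_⟩
  rw [hχe]
  show k (ψ (Subgroup.inclusion hPQ x)) = _
  rw [hψg, (hkg x (Subgroup.mem_sup_left x.2)).2, hgφP x x.2, ← hfe x, hhe ⟨φ x, hφQ x⟩,
    hgψQ _ (hφQ x)]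

include hS hF hE hRE in
/-- Some normal subsystem of `N_F(X)` over `N_{TX}(X)` lies in the system over `T ⊔ X`. -/
theorem exists_normal_in_normalizer (hX : F.IsFullyNormalized X) :
    ∃ (D : FusionSystem (T ⊔ X)) (D' : FusionSystem (normalizerIn (T ⊔ X) X)), IsRE F E p D ∧
      D'.IsNormalIn (nrmSys F hX.1) p ∧ D'.IsSubsystemOf D := by
  have hRS : T ⊔ X ≤ S := sup_le hE.1.2.2.2.1.1 hX.1
  obtain ⟨D, hD, -⟩ := hRE (T ⊔ X) le_sup_left hRS
  have := finite_of_le hRS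
  have : Finite (normalizerIn S X) := finite_of_le normalizerIn_le
  have : Finite (normalizerIn (T ⊔ X) X) := finite_of_le normalizerIn_le
  refine ⟨D, PPrimeRes.res p (nrmSys D le_sup_right), hD,
    PPrimeRes.res_isNormalIn (hS.to_le normalizerIn_le)
      (nrmSys_weaklyNormal hS hF hE hRE hX rfl hD le_sup_right), fun P φ hφ => ?_⟩
  exact nrmSys_sub le_sup_right P (PPrimeRes.res_le p _ P hφ)

end CfsgLib.EBalance
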