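import Cfsg.Agent.Lib.Fusion.ResidualWeak
import Cfsg.Agent.Lib.Fusion.ComponentImage
import Cfsg.Agent.Lib.Fusion.CoreComponents

/-!
# The system over `R` with the `p`-residual of a normal subsystem

For `E` normal in `F` over `T` and `T ≤ R ≤ S` the systems `D` over `R` with the hyperfocal subgroup and
the `p`-residual of `E` are, by hypothesis (`HasRE`), unique. We derive that `E` lies in `D` and that maps
of `F` on `R` carry `D` to the system over the image of `R`.
-/

set_option autoImplicit false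
set_option linter.unusedSectionVars false

namespace CfsgLib.EBalance

open Cfsg Cfsg.FusionSystem CfsgLib.Fusion CfsgLib.FusionNormal CfsgLib.FusionTransport

universe u

variable {Ω : Type u} [Group Ω] {S T R : Subgroup Ω}

/-- `D` over `R` is saturated, lies in `F` and has the hyperfocal subgroup and `p`-residual of `E`. -/
def IsRE (F : FusionSystem S) (E : FusionSystem T) (p : ℕ) {R : Subgroup Ω} (D : FusionSystem R) : Prop :=
  D.IsSaturated p ∧ D.IsSubsystemOf F ∧ D.hyperfocalSubgroup p = E.hyperfocalSubgroup p ∧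
    ∀ (D₁ : FusionSystem (D.hyperfocalSubgroup p)) (E₁ : FusionSystem (E.hyperfocalSubgroup p)),
      D.IsPResidual p D₁ → E.IsPResidual p E₁ → ∀ P : Subgroup Ω, D₁.Hom P = E₁.Hom P

/-- Existence and uniqueness of the systems `IsRE`. -/
def HasRE (F : FusionSystem S) (E : FusionSystem T) (p : ℕ) : Prop :=
  ∀ R : Subgroup Ω, T ≤ R → R ≤ S → ∃ D : FusionSystem R, IsRE F E p D ∧
    ∀ D' : FusionSystem R, IsRE F E p D' → ∀ P : Subgroup Ω, D'.Hom P = D.Hom P

variable {F : FusionSystem S} {E : FusionSystem T} {D : FusionSystem R} {p : ℕ}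

theorem HasRE.eq (h : HasRE F E p) (hTR : T ≤ R) (hRS : R ≤ S) {D D' : FusionSystem R}
    (hD : IsRE F E p D) (hD' : IsRE F E p D') : D = D' := by
  obtain ⟨D₀, -, hu⟩ := h R hTR hRS
  exact ext_hom fun P => (hu D hD P).trans (hu D' hD' P).symm

/-- A strongly closed subgroup is carried onto itself by maps defined on it. -/
theorem image_sc [Finite S] {W P : Subgroup Ω} (hW : F.StronglyClosed W) {a : Ω → Ω} (ha : MapFn F P a)
    (hWP : W ≤ P) : a '' W = (W : Set Ω) := by
  refine (ha.mono hWP).image_eq_of_maps hW.1 (fun x hx => ?_) le_rfl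
  obtain ⟨φ, hφ, he⟩ := ha.mono hWP
  rw [← he ⟨x, hx⟩]
  exact hW.2 W le_rfl φ hφ _

variable [Finite S] [Fact p.Prime]

/-- A subsystem of `p`-power index over a normal subgroup has the same hyperfocal subgroup. -/
theorem hyperfocal_pIndex (hS : IsPGroup p S) (hF : F.IsSaturated p) {Y : FusionSystem R} (hRS : R ≤ S)
    (hRn : (R.subgroupOf S).Normal) (hY : Y.IsSaturated p) (hYi : Y.HasPPowerIndexIn F p) :
    Y.hyperfocalSubgroup p = F.hyperfocalSubgroup p := by
  have hYn := isNormalIn_of_pIndex hS hF hRS hRn hY hYi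
  refine le_antisymm (hyperfocal_mono hYi.1) ?_
  set N := Y.hyperfocalSubgroup p with hN
  have hNn : ∀ s ∈ S, ∀ u ∈ N, s * u * s⁻¹ ∈ N := fun s hs u hu =>
    ResLimit.hyperfocal_map_mem hYn.1.2.2 (mapFn_conj hRS hs)
      (image_sc hYn.1.2.2.2.1 (mapFn_conj hRS hs) le_rfl) hu
  rw [FusionSystem.hyperfocalSubgroup, Subgroup.closure_le]
  rintro _ ⟨P, α, x, hP, hα, rfl⟩
  suffices key : ∀ β : F.autGroup P, (orderOf β).Coprime p →
      ∀ x : P, (x : Ω)⁻¹ * ((β : MulAut P) x : P) ∈ N by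
    let K : Submonoid (F.autGroup P) :=
      { carrier := {β | ∀ x : P, (x : Ω)⁻¹ * ((β : MulAut P) x : P) ∈ N}
        one_mem' := fun x => by simp
        mul_mem' := fun {a b} ha hb x => by
          have h1 := N.mul_mem (hb x) (ha ((b : MulAut P) x))
          simpa [mul_assoc] using h1 }
    let K' : Subgroup (F.autGroup P) :=
      { K with
        inv_mem' := fun {a} ha x => by
          have h1 := N.inv_mem (ha ((a : MulAut P)⁻¹ x))
          rw [MulAut.apply_inv_self] at h1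
          simpa using h1 }
    exact (CfsgLib.Transfer.pResidual_le_iff.mpr fun β hβ => (show β ∈ K' from key β hβ)) hα x
  intro β hβ x
  have := finite_mulAut hP
  have hmR : ∀ w : P, (w : Ω)⁻¹ * (((β : MulAut P) w : P) : Ω) ∈ P ⊓ R := fun w =>
    ⟨P.mul_mem (P.inv_mem w.2) (Subtype.mem _),
      hYi.2.1 (mem_hyperfocal hP (CfsgLib.Transfer.mem_pResidual hβ) w)⟩
  have hfix : ∀ w : P, (w : Ω) ∈ R → (w : Ω)⁻¹ * (((β : MulAut P) w : P) : Ω) ∈ N := by
    intro w hw
    obtain ⟨c, hc, hce⟩ := exists_residual_restrict hYn.1.2.2.2.1 hP (CfsgLib.Transfer.mem_pResidual hβ)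
    have hcY := mem_autGroup_of_residual hYi (inf_le_right : P ⊓ R ≤ R) hc
    have hord : (orderOf (β : MulAut P)).Coprime p := by rwa [Subgroup.orderOf_coe]
    have hcn : (c : MulAut ↥(P ⊓ R)) ^ orderOf (β : MulAut P) = 1 := by
      have key : ∀ i : ℕ, ∀ y : ↥(P ⊓ R), ((((c : MulAut ↥(P ⊓ R)) ^ i) y : ↥(P ⊓ R)) : Ω) =
          (((β : MulAut P) ^ i) ⟨y, y.2.1⟩ : P) := by
        intro i
        induction i with
        | zero => intro y; simp
        | succ i ih =>
          intro y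
          simp only [pow_succ', MulAut.mul_apply]
          rw [hce]
          exact congrArg (fun z : P => (((β : MulAut P) z : P) : Ω)) (Subtype.ext (ih y))
      refine MulEquiv.ext fun y => Subtype.ext ?_
      rw [key, pow_orderOf_eq_one]
      rfl
    have hres : (⟨_, hcY⟩ : Y.autGroup (P ⊓ R)) ∈ pResidual p (Y.autGroup (P ⊓ R)) :=
      CfsgLib.Transfer.mem_pResidual (by
        rw [← Subgroup.orderOf_coe]
        exact Nat.Coprime.coprime_dvd_left (orderOf_dvd_of_pow_eq_one hcn) hord)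
    have h1 := mem_hyperfocal (inf_le_right : P ⊓ R ≤ R) hres ⟨w, w.2, hw⟩
    rwa [hce] at h1
  have hord : (orderOf (β : MulAut P)).Coprime p := by rwa [Subgroup.orderOf_coe]
  refine CfsgLib.FusionLayer.mem_of_coprime_stabilize hS hP hNn hord (pow_orderOf_eq_one _)
    (fun w hw => ?_) x ?_
  · have hwR : (w : Ω) ∈ R := hyperfocal_le Y p hw
    have h1 := N.mul_mem hw (hfix w hwR)
    simpa using h1
  · rw [Subgroup.mem_subgroupOf]
    exact hfix _ (hmR x).2

variable (hS : IsPGroup p S) (hE : E.IsNormalIn F p)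

include hS hE in
/-- The residual of `E` exists and is weakly normal in `F`. -/
theorem exists_residual : ∃ E₁ : FusionSystem (E.hyperfocalSubgroup p), E.IsPResidual p E₁ ∧
    E₁.IsWeaklyNormalIn F p := by
  have hTS : T ≤ S := hE.1.2.2.2.1.1
  have := finite_of_le hTS
  obtain ⟨E₁, h1, h2⟩ := exists_pIndex (hS.to_le hTS) hE.1.1 (hyperfocal_le E p) le_rfl
  exact ⟨E₁, ⟨h1, h2⟩, ResLimit.weaklyNormal_pIndex hS hE.1 (ResLimit.hyperfocal_normal E) h1 h2
    fun a ha har x hx => ResLimit.hyperfocal_map_mem hE.1.2.2 ha har hx⟩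

include hS in
/-- A saturated system in `D` over a subgroup of the hyperfocal subgroup lies in the residual. -/
theorem IsRE.sub_residual (hRS : R ≤ S) (hD : IsRE F E p D) {E₁ : FusionSystem (E.hyperfocalSubgroup p)}
    (hE₁ : E.IsPResidual p E₁) {W : Subgroup Ω} {Z : FusionSystem W} (hW : W ≤ E.hyperfocalSubgroup p)
    (hZ : Z.IsSaturated p) (hZD : Z.IsSubsystemOf D) : Z.IsSubsystemOf E₁ := by
  have := finite_of_le hRS
  have hR := hS.to_le hRS
  obtain ⟨D₁, h1, h2⟩ := exists_pIndex hR hD.1 (hyperfocal_le D p) le_rfl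
  have hW' : W ≤ D.hyperfocalSubgroup p := hD.2.2.1.symm ▸ hW
  have := finite_of_le (hW'.trans (hyperfocal_le D p))
  have hs := ResLimit.sub_of_pIndex (hR.to_le (hW'.trans (hyperfocal_le D p))) hZ hZD h2 hW'
  intro P
  rw [← hD.2.2.2 D₁ E₁ ⟨h1, h2⟩ hE₁ P]
  exact hs P

include hS in
theorem IsRE.residual_sub (hRS : R ≤ S) (hD : IsRE F E p D) {E₁ : FusionSystem (E.hyperfocalSubgroup p)}
    (hE₁ : E.IsPResidual p E₁) : E₁.IsSubsystemOf D := by
  have := finite_of_le hRS
  obtain ⟨D₁, h1, h2⟩ := exists_pIndex (hS.to_le hRS) hD.1 (hyperfocal_le D p) le_rfl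
  intro P
  rw [← hD.2.2.2 D₁ E₁ ⟨h1, h2⟩ hE₁ P]
  exact h2.1 P

include hS hE in
theorem isRE_of (hRS : R ≤ S) (hD : D.IsSaturated p) (hDF : D.IsSubsystemOf F)
    (hh : D.hyperfocalSubgroup p = E.hyperfocalSubgroup p) {E₁ : FusionSystem (E.hyperfocalSubgroup p)}
    (hE₁ : E.IsPResidual p E₁) (h₁ : E₁.IsSubsystemOf D)
    (h₂ : ∀ (W : Subgroup Ω) (Z : FusionSystem W), W ≤ E.hyperfocalSubgroup p → Z.IsSaturated p →
      Z.IsSubsystemOf D → Z.IsSubsystemOf E₁) : IsRE F E p D := by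
  refine ⟨hD, hDF, hh, fun D₁ E₁' hD₁ hE₁' P => ?_⟩
  have hTS : T ≤ S := hE.1.2.2.2.1.1
  have := finite_of_le hTS
  have := finite_of_le hRS
  obtain rfl : E₁' = E₁ :=
    Fusion.le_antisymm' (le_of_pIndex (hS.to_le hTS) (hyperfocal_le E p) hE₁'.1 hE₁'.2.1 hE₁.2)
      (le_of_pIndex (hS.to_le hTS) (hyperfocal_le E p) hE₁.1 hE₁.2.1 hE₁'.2)
  have hW : E.hyperfocalSubgroup p ≤ S := (hyperfocal_le E p).trans hTS
  have := finite_of_le hW
  exact Set.Subset.antisymm (h₂ _ D₁ hh.le hD₁.1 hD₁.2.1 P)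
    (ResLimit.sub_of_pIndex (hS.to_le hW) hE₁.1 h₁ hD₁.2 hh.ge P)

include hS hE in
theorem isRE_self : IsRE F E p E := by
  obtain ⟨E₁, hE₁, -⟩ := exists_residual hS hE
  have hTS : T ≤ S := hE.1.2.2.2.1.1
  have := finite_of_le hTS
  refine isRE_of hS hE hTS hE.1.1 hE.1.2.2.1 rfl hE₁ hE₁.2.1 fun W Z hW hZ hZE => ?_
  have := finite_of_le (hW.trans (hyperfocal_le E p))
  exact ResLimit.sub_of_pIndex ((hS.to_le hTS).to_le (hW.trans (hyperfocal_le E p))) hZ hZE hE₁.2 hW

include hS hE in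
/-- `E` lies in every `D`. -/
theorem IsRE.layer_sub (hRE : HasRE F E p) (hTR : T ≤ R) (hRS : R ≤ S) (hD : IsRE F E p D) :
    E.IsSubsystemOf D := by
  obtain ⟨E₁, hE₁, -⟩ := exists_residual hS hE
  have hTS : T ≤ S := hE.1.2.2.2.1.1
  have := finite_of_le hRS
  have := finite_of_le hTS
  have hR := hS.to_le hRS
  have hhT : D.hyperfocalSubgroup p ≤ T := hD.2.2.1.le.trans (hyperfocal_le E p)
  obtain ⟨Y, hY, hYi⟩ := exists_pIndex hR hD.1 hTR hhT
  have hTn : (T.subgroupOf R).Normal := ⟨fun t ht g =>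
    Subgroup.mem_subgroupOf.mpr (FusionNormal.conj_mem_of_normalizer (StronglyClosed.le_normalizer hE.1.2.2.2.1 (hRS g.2)) ht)⟩
  have hYre : IsRE F E p Y := by
    refine isRE_of hS hE hTS hY (fun P => (hYi.1 P).trans (hD.2.1 P))
      ((hyperfocal_pIndex hR hD.1 hTR hTn hY hYi).trans hD.2.2.1) hE₁ ?_
      fun W Z hW hZ hZY => hD.sub_residual hS hRS hE₁ hW hZ fun P => (hZY P).trans (hYi.1 P)
    have hW : E.hyperfocalSubgroup p ≤ S := (hyperfocal_le E p).trans hTS
    have := finite_of_le hW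
    exact ResLimit.sub_of_pIndex (hS.to_le hW) hE₁.1 (hD.residual_sub hS hRS hE₁) hYi (hyperfocal_le E p)
  rw [← hRE.eq le_rfl hTS hYre (isRE_self hS hE)]
  exact hYi.1

include hS in
/-- Strongly closed subgroups above the hyperfocal subgroup and `P ⊔ T = R`: the image of `P` also
generates `R` with `T`. -/
theorem IsRE.image_sup (hTR : T ≤ R) (hRS : R ≤ S) (hD : IsRE F E p D) {P Q : Subgroup Ω}
    (hP : T ⊔ P = R) {d : Ω → Ω} (hd : MapFn D P d) (hQ : d '' P = (Q : Set Ω)) : T ⊔ Q = R := by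
  have := finite_of_le hRS
  have hR := hS.to_le hRS
  have hQR : Q ≤ R := fun y hy => by
    obtain ⟨x, hx, rfl⟩ := exists_of_image hQ hy
    exact hd.mem_S hx
  by_contra hne
  set H := (T ⊔ Q).subgroupOf R
  have hH : H ≠ ⊤ := fun h => hne (le_antisymm (sup_le hTR hQR) (Subgroup.subgroupOf_eq_top.mp h))
  obtain ⟨M, hM, hHM⟩ := (eq_top_or_exists_le_coatom H).resolve_left hH
  have : Group.IsNilpotent R := hR.isNilpotent
  have hMn : M.Normal := Subgroup.NormalizerCondition.normal_of_coatom M Group.normalizerCondition_of_isNilpotent hM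
  set M' := M.map R.subtype
  have hM'R : M' ≤ R := by rintro _ ⟨x, -, rfl⟩; exact x.2
  have hle : T ⊔ Q ≤ M' := fun x hx => ⟨⟨x, sup_le hTR hQR hx⟩, hHM hx, rfl⟩
  have hsub : M'.subgroupOf R = M := Subgroup.comap_map_eq_self_of_injective R.subtype_injective M
  have hsc := stronglyClosed_of_hyperfocal_le hR hD.1 hM'R (hsub.symm ▸ hMn)
    ((hD.2.2.1.le.trans (hyperfocal_le E p)).trans (le_sup_left.trans hle))
  obtain ⟨g, hg, -, hgd, -⟩ := hd.exists_inv hQ
  have hPM : P ≤ M' := fun x hx => by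
    obtain ⟨φ, hφ, he⟩ := hg
    have h1 := StronglyClosed.apply_mem hsc hφ ⟨d x, mem_of_image hQ hx⟩
      (hle (Subgroup.mem_sup_right (mem_of_image hQ hx)))
    rw [he] at h1
    rwa [show g (d x) = x from hgd x hx] at h1
  refine hM.1 (eq_top_iff.mpr fun x _ => ?_)
  obtain ⟨y, hy, hyx⟩ := (sup_le (le_sup_left.trans hle) hPM) (hP.ge x.2)
  rwa [← R.subtype_injective hyx]

include hS hE in
/-- Maps of `F` on `R` carry the system over `R` to the one over the image. -/
theorem IsRE.conj (hRE : HasRE F E p) (hTR : T ≤ R) (hRS : R ≤ S) (hD : IsRE F E p D) {a : Ω → Ω}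
    (ha : MapFn F R a) {R' : Subgroup Ω} (hR' : a '' R = (R' : Set Ω)) {D' : FusionSystem R'}
    (hD' : IsRE F E p D') {P P' : Subgroup Ω} {k : Ω → Ω} (hk : MapFn D P k)
    (hP' : a '' P = (P' : Set Ω)) : ∃ k', MapFn D' P' k' ∧ ∀ x ∈ P, k' (a x) = a (k x) := by
  have := finite_of_le hRS
  have hTsc := hE.1.2.2.2.1
  have hTS : T ≤ S := hTsc.1
  obtain ⟨E₁, hE₁, hE₁w⟩ := exists_residual hS hE
  let Hyp := E.hyperfocalSubgroup p
  have hHT : Hyp ≤ T := hyperfocal_le E p
  obtain ⟨e, he, hg⟩ := exists_emb_of_mapFn ha hR'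
  have hf : MapFn F R e.f := ha.congr fun x _ => (he x).symm
  have haT : e.f '' T = (T : Set Ω) := image_sc hTsc hf hTR
  have hTR' : T ≤ R' := fun y hy => by
    obtain ⟨x, hx, rfl⟩ := exists_of_image haT hy
    exact e.f_mem x (hTR hx)
  have hR'S : R' ≤ S := hg.le_S
  have hgT : e.g '' T = (T : Set Ω) := image_sc hTsc hg hTR'
  have hfH : ∀ y ∈ Hyp, e.f y ∈ Hyp := fun y hy =>
    ResLimit.hyperfocal_map_mem hE.1.2.2 (hf.mono hTR) haT hy
  have hgH : ∀ y ∈ Hyp, e.g y ∈ Hyp := fun y hy =>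
    ResLimit.hyperfocal_map_mem hE.1.2.2 (hg.mono hTR') hgT hy
  -- the transported system
  obtain ⟨D'', hrel⟩ : ∃ D'' : FusionSystem R', Rel e D D'' := by
    have h0 : ∃ D'' : FusionSystem (e.img R), Rel e D D'' := ⟨_, rel_sys e D le_rfl⟩
    rwa [e.img_self] at h0
  have hD''s : D''.IsSaturated p := hrel.isSaturated (hS.to_le hRS) hD.1
  -- transport of the residual
  have hE₁c : ∀ {A B : Subgroup Ω} (e : Emb A B), MapFn F A e.f → Hyp ≤ A →
      (∀ y ∈ Hyp, e.f y ∈ Hyp) → ∀ {V : Subgroup Ω} {l : Ω → Ω}, MapFn E₁ V l →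
      MapFn E₁ (e.img V) (e.f ∘ l ∘ e.g) := by
    intro A B e hf hHA hfH V l hl
    have hVH : V ≤ Hyp := hl.le_S
    obtain ⟨χ, hχ, hχe⟩ := FusionNormal.mapFn_transport hE₁w.2.2 hl (hf.mono hHA)
      (image_sc hE₁w.2.2.2.1 hf hHA) (e.image_eq (hVH.trans hHA))
    refine hχ.congr fun y hy => ?_
    show χ y = e.f (l (e.g y))
    rw [← hχe _ hy.2, e.fg y hy.1]
  have hD''F : D''.IsSubsystemOf F := fun V => hom_subset_iff_mapFn.mpr fun l hl => by
    have h1 := mapFn_of_sub hD.2.1 (hrel.bwd hl)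
    have hV : V ≤ R' := hl.le_S
    refine (((hg.mono hV).comp h1 fun y hy => e.symm.f_mem_img hV hy).comp hf fun y hy => ?_).congr
      fun y hy => ?_
    · exact e.g_mem _ (hl.mem_S (show e.f (e.g y) ∈ V by rw [e.fg y (hV hy)]; exact hy))
    · show e.f (e.g (l (e.f (e.g y)))) = l y
      rw [e.fg y (hV hy), e.fg _ (hl.mem_S hy)]
  have hh : D''.hyperfocalSubgroup p = Hyp := by
    refine le_antisymm (fun y hy => ?_) fun y hy => ?_
    · have h1 := hrel.symm.img_hyperfocal_le p y hy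
      rw [hD.2.2.1] at h1
      have h2 := hfH _ h1
      rwa [show e.f (e.symm.f y) = y from e.fg y (hyperfocal_le D'' p hy)] at h2
    · have h1 := hrel.img_hyperfocal_le p _ (show e.g y ∈ D.hyperfocalSubgroup p by
        rw [hD.2.2.1]; exact hgH y hy)
      rwa [e.fg y (hTR' (hHT hy))] at h1
  have hD''re : IsRE F E p D'' := by
    refine isRE_of hS hE hR'S hD''s hD''F hh hE₁ (fun V => hom_subset_iff_mapFn.mpr fun l hl => ?_)
      fun W Z hW hZ hZD => fun V => hom_subset_iff_mapFn.mpr fun l hl => ?_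
    · have hV : V ≤ R' := hl.le_S.trans (hHT.trans hTR')
      have h1 := hrel.fwd (mapFn_of_sub (hD.residual_sub hS hRS hE₁)
        (hE₁c e.symm hg (hHT.trans hTR') hgH hl))
      rw [e.img_symm hV] at h1
      refine h1.congr fun y hy => ?_
      show e.f (e.g (l (e.f (e.g y)))) = l y
      rw [e.fg y (hV hy), e.fg _ (hTR' (hHT (hl.mem_S hy)))]
    · have hWR : W ≤ R' := hW.trans (hHT.trans hTR')
      have hV : V ≤ R' := hl.le_S.trans hWR
      have hRW := rel_sys e.symm Z hWR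
      have := finite_of_le hR'S
      have hs := hRW.isSaturated (hS.to_le hR'S) hZ
      have hsub : e.symm.img W ≤ Hyp := fun x hx => by
        have h1 := hgH _ (hW hx.2)
        rwa [show e.g (e.symm.g x) = x from e.gf x hx.1] at h1
      have h1 := hE₁c e hf (hHT.trans hTR) hfH
        (mapFn_of_sub (hD.sub_residual hS hRS hE₁ hsub hs (hRW.mapFn_sub hrel.symm hZD)) (hRW.fwd hl))
      rw [e.img_symm hV] at h1
      refine h1.congr fun y hy => ?_
      show e.f (e.g (l (e.f (e.g y)))) = l y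
      rw [e.fg y (hV hy), e.fg _ (hWR (hl.mem_S hy))]
  have hk' := hrel.fwd hk
  rw [hRE.eq hTR' hR'S hD''re hD'] at hk'
  have hPR : P ≤ R := hk.le_S
  have himg : e.img P = P' := SetLike.coe_injective (by
    rw [← e.image_eq hPR, ← hP']
    exact Set.image_congr fun x _ => he x)
  rw [himg] at hk'
  refine ⟨_, hk', fun x hx => ?_⟩
  show e.f (k (e.g (a x))) = a (k x)
  rw [← he, e.gf x (hPR hx), he]

end CfsgLib.EBalance
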